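import Groth.Agent.RefStalk.Refl
import Groth.Agent.InvGen.Basic
import Groth.Agent.UFDLib.Regular
import Groth.Prelude.Def_Pic
import Mathlib

/-!
Reflexive modules of rank one over factorial local rings are free.
-/

set_option autoImplicit false
set_option backward.isDefEq.respectTransparency false

universe u

open CategoryTheory CategoryTheory.Limits AlgebraicGeometry TopologicalSpace Opposite
open Groth.Agent.WeakAssLib (mgerm mgerm_smul mgerm_res ext_germ)
open Groth.Agent.QC (res resO res_res res_smul)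
open TMul (IsGen)

noncomputable section

namespace Groth.Agent.RefStalk

/-- The dual of a nonzero ideal in a factorial domain is free of rank one. -/
theorem exists_dual_ideal_equiv {R : Type u} [CommRing R] [IsDomain R] [UniqueFactorizationMonoid R]
    [IsNoetherianRing R] (I : Ideal R) (hI : I ≠ ⊥) : Nonempty (Module.Dual R I ≃ₗ[R] R) := by
  classical
  letI := Classical.arbitrary (NormalizedGCDMonoid R)
  obtain ⟨s, hs⟩ := (IsNoetherian.noetherian I : I.FG)
  obtain ⟨a, has, ha⟩ : ∃ a ∈ s, a ≠ 0 := by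
    by_contra h
    push Not at h
    exact hI (by rw [← hs, Submodule.span_eq_bot]; exact h)
  have hsI : ∀ x ∈ s, x ∈ I := fun x hx => hs ▸ Submodule.subset_span hx
  obtain ⟨q, hq, hq1⟩ := Finset.extract_gcd (f := (id : R → R)) ⟨a, has⟩
  set d := s.gcd (id : R → R) with hd
  have hd0 : d ≠ 0 := fun h => ha (by rw [show a = d * q a from hq a has, h, zero_mul])
  have hdiv : ∀ x ∈ I, ∃ c, x = d * c := fun x hx => by
    rw [← hs] at hx
    refine (Submodule.span_le (p := (Ideal.span {d} : Ideal R))).2 ?_ hx |> Ideal.mem_span_singleton'.1 |>.elim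
      fun c hc => ⟨c, by rw [← hc, mul_comm]⟩
    exact fun y hy => Ideal.mem_span_singleton.2 (Finset.gcd_dvd hy)
  choose c hc using hdiv
  let base : I →ₗ[R] R :=
    { toFun := fun x => c x.1 x.2
      map_add' := fun x y => mul_left_cancel₀ hd0 (by rw [mul_add, ← hc, ← hc, ← hc]; rfl)
      map_smul' := fun r x => mul_left_cancel₀ hd0 (by
        rw [← hc, RingHom.id_apply, smul_eq_mul, mul_left_comm, ← hc]; rfl) }
  have hbase : ∀ x (hx : x ∈ s), base ⟨x, hsI x hx⟩ = q x := fun x hx =>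
    mul_left_cancel₀ hd0 (by rw [← hq x hx]; exact (hc _ _).symm)
  have hqa : q a ≠ 0 := fun h => ha (by rw [show a = d * q a from hq a has, h, mul_zero])
  refine ⟨(LinearEquiv.ofBijective (LinearMap.toSpanSingleton R _ base) ⟨fun r r' h => ?_, fun ψ => ?_⟩).symm⟩
  · have := LinearMap.congr_fun h ⟨a, hsI a has⟩
    change r • base _ = r' • base _ at this
    rw [hbase a has, smul_eq_mul, smul_eq_mul] at this
    exact mul_right_cancel₀ hqa this
  · have key : ∀ x (hx : x ∈ s), q a * ψ ⟨x, hsI x hx⟩ = q x * ψ ⟨a, hsI a has⟩ := fun x hx => by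
      refine mul_left_cancel₀ hd0 ?_
      rw [← mul_assoc, ← mul_assoc, ← hq a has, ← hq x hx, ← smul_eq_mul (id a), ← smul_eq_mul (id x),
        ← map_smul, ← map_smul]
      exact congrArg ψ (Subtype.ext (mul_comm a x))
    obtain ⟨r, hr⟩ : q a ∣ ψ ⟨a, hsI a has⟩ := by
      have h1 : q a ∣ s.gcd fun x => q x * ψ ⟨a, hsI a has⟩ :=
        Finset.dvd_gcd fun x hx => ⟨_, (key x hx).symm⟩
      refine h1.trans ((Finset.gcd_mul_right' s q _).dvd.trans ?_)
      rw [hq1, one_mul]
    refine ⟨r, LinearMap.ext fun ⟨y, hy⟩ => ?_⟩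
    have hsa : ψ ⟨a, hsI a has⟩ = r * base ⟨a, hsI a has⟩ := by rw [hr, hbase a has, mul_comm]
    change r * base ⟨y, hy⟩ = ψ ⟨y, hy⟩
    refine mul_left_cancel₀ ha ?_
    have e1 : a * ψ ⟨y, hy⟩ = y * ψ ⟨a, hsI a has⟩ := by
      rw [← smul_eq_mul a, ← smul_eq_mul y, ← map_smul, ← map_smul]
      exact congrArg ψ (Subtype.ext (mul_comm a y))
    have e2 : a * base ⟨y, hy⟩ = y * base ⟨a, hsI a has⟩ := by
      rw [← smul_eq_mul a, ← smul_eq_mul y, ← map_smul, ← map_smul]
      exact congrArg base (Subtype.ext (mul_comm a y))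
    rw [e1, hsa, mul_left_comm a r, e2, mul_left_comm y r]

/-- A nonzero finite reflexive module any two elements of which are dependent is free of rank one over a
factorial Noetherian domain. -/
theorem exists_equiv_of_isReflexive {R : Type u} [CommRing R] [IsDomain R] [UniqueFactorizationMonoid R]
    [IsNoetherianRing R] {M : Type u} [AddCommGroup M] [Module R M] [Module.IsReflexive R M] [Nontrivial M]
    (hdep : ∀ m m' : M, m ≠ 0 → ∃ a b : R, b ≠ 0 ∧ b • m' = a • m) : Nonempty (M ≃ₗ[R] R) := by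
  obtain ⟨m, hm⟩ := exists_ne (0 : M)
  let e := Module.evalEquiv R M
  obtain ⟨φ, hφ⟩ : ∃ φ : Module.Dual R M, φ m ≠ 0 := by
    by_contra h
    push Not at h
    exact hm (e.injective (by rw [map_zero]; exact LinearMap.ext h))
  let j := LinearMap.applyₗ (R := R) (M₂ := R) m
  have hj : Function.Injective j := by
    rw [injective_iff_map_eq_zero]
    intro ψ hψ
    refine LinearMap.ext fun m' => ?_
    obtain ⟨a, b, hb, hab⟩ := hdep m m' hm
    have h := congrArg ψ hab
    rw [map_smul, map_smul, show ψ m = 0 from hψ, smul_zero] at h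
    exact (smul_eq_zero.1 h).resolve_left hb
  have hI : LinearMap.range j ≠ ⊥ := fun h => hφ ((Submodule.eq_bot_iff _).1 h (j φ) ⟨φ, rfl⟩)
  obtain ⟨d⟩ := exists_dual_ideal_equiv (LinearMap.range j) hI
  exact ⟨e ≪≫ₗ (LinearEquiv.ofInjective j hj).symm.dualMap ≪≫ₗ d⟩

variable {X : Scheme.{u}} {F : X.Modules}

/-- A section generating every stalk freely is a generator. -/
theorem isGen_of_stalk {W : X.Opens} {e : Γ(F, W)}
    (h : ∀ (y : X) (hy : y ∈ W), Function.Bijective fun a : X.presheaf.stalk y => a • mgerm F hy e) :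
    IsGen e := by
  intro O hO
  have hinj : ∀ (P : X.Opens) (hP : P ≤ W), Function.Injective fun c : Γ(X, P) => c • res F hP e :=
    fun P hP c c' hcc => TopCat.Presheaf.section_ext X.sheaf P c c' fun y hy => (h y (hP hy)).1 (by
      have := congrArg (mgerm F hy) hcc
      simp only [mgerm_smul, mgerm_res] at this
      exact this)
  refine ⟨hinj O hO, fun t => ?_⟩
  have hloc : ∀ y : O, ∃ (P : X.Opens) (hP : P ≤ O), y.1 ∈ P ∧
      ∃ c : Γ(X, P), c • res F (hP.trans hO) e = res F hP t := fun ⟨y, hy⟩ => by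
    obtain ⟨a, ha⟩ := (h y (hO hy)).2 (mgerm F hy t)
    obtain ⟨Q, hyQ, c, rfl⟩ := TopCat.Presheaf.exists_germ_eq X.presheaf a
    have hy' : y ∈ O ⊓ Q := ⟨hy, hyQ⟩
    have h1 : mgerm F hy' (resO X (inf_le_right : O ⊓ Q ≤ Q) c • res F (inf_le_left.trans hO : O ⊓ Q ≤ W) e) =
        mgerm F hy' (res F inf_le_left t) := by
      rw [mgerm_smul, mgerm_res, mgerm_res, ← ha]
      exact congrArg (· • mgerm F (hO hy) e) (X.presheaf.germ_res_apply _ _ _ _)
    obtain ⟨P, hyP, i₁, i₂, he⟩ :=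
      TopCat.Presheaf.germ_eq F.presheaf (U := O ⊓ Q) (V := O ⊓ Q) y hy' hy' _ _ h1
    refine ⟨P, i₁.le.trans inf_le_left, hyP, resO X (i₁.le.trans inf_le_right) c, ?_⟩
    have e' : res F i₁.le (resO X (inf_le_right : O ⊓ Q ≤ Q) c • res F (inf_le_left.trans hO : O ⊓ Q ≤ W) e) =
        res F i₂.le (res F inf_le_left t) := he
    rw [res_smul, res_res, res_res, Groth.Agent.QC.resO_resO] at e'
    exact e'
  choose P hP hyP c hc using hloc
  obtain ⟨m, hm, -⟩ := TopCat.Sheaf.existsUnique_gluing' X.sheaf P O (fun y => homOfLE (hP y))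
    (fun y hy => Opens.mem_iSup.2 ⟨⟨y, hy⟩, hyP _⟩) c fun v w => by
      change resO X (inf_le_left : P v ⊓ P w ≤ P v) (c v) = resO X (inf_le_right : P v ⊓ P w ≤ P w) (c w)
      refine hinj _ ((inf_le_left.trans (hP v)).trans hO) ?_
      have e1 := congrArg (res F (inf_le_left : P v ⊓ P w ≤ P v)) (hc v)
      have e2 := congrArg (res F (inf_le_right : P v ⊓ P w ≤ P w)) (hc w)
      rw [res_smul, res_res, res_res] at e1 e2
      exact e1.trans e2.symm
  refine ⟨m, Groth.Agent.QC.section_eq_of_locally fun y hy => ⟨P ⟨y, hy⟩, hP _, hyP _, ?_⟩⟩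
  change res F (hP ⟨y, hy⟩) ((show Γ(X, O) from m) • res F hO e) = _
  rw [res_smul, res_res, show resO X (hP ⟨y, hy⟩) m = c ⟨y, hy⟩ from hm ⟨y, hy⟩]
  exact hc _

/-- A quasi-coherent finite type module with all stalks free of rank one is invertible. -/
theorem isInvertible_of_stalk_equiv (hF : Coh.IsQCoh F) (hFT : CohB1.IsFT F)
    (h : ∀ x : X, Nonempty (F.presheaf.stalk x ≃ₗ[X.presheaf.stalk x] X.presheaf.stalk x)) :
    PicF.IsInvertible F := by
  refine InvGen.isInvertible fun x => ?_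
  obtain ⟨ex⟩ := h x
  obtain ⟨W₀, hxW₀, s, hs⟩ := TopCat.Presheaf.exists_germ_eq F.presheaf (ex.symm 1)
  obtain ⟨U, hU, hxU, hUW⟩ := exists_isAffineOpen_mem_and_subset (U := W₀) hxW₀
  haveI := Groth.Agent.QC.finite_sections hU (hM := hF) hFT
  obtain ⟨k, b, hb⟩ := Module.Finite.exists_fin (R := Γ(X, U)) (M := Γ(F, U))
  have hnear : ∀ i, ∃ O : X.Opens, x ∈ O ∧ ∀ (y : X) (_ : y ∈ O) (hyU : y ∈ U),
      ∃ a : X.presheaf.stalk y, mgerm F hyU (b i) = a • mgerm F (hUW hyU) s := fun i => by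
    have h1 : mgerm F hxU (b i) = ex (mgerm F hxU (b i)) • mgerm F hxW₀ s := by
      apply ex.injective
      rw [map_smul, show mgerm F hxW₀ s = ex.symm 1 from hs, ex.apply_symm_apply, smul_eq_mul, mul_one]
    obtain ⟨Q, hxQ, c, hc⟩ := TopCat.Presheaf.exists_germ_eq X.presheaf (ex (mgerm F hxU (b i)))
    have hx' : x ∈ U ⊓ Q := ⟨hxU, hxQ⟩
    have h2 : mgerm F hx' (res F inf_le_left (b i)) =
        mgerm F hx' (resO X (inf_le_right : U ⊓ Q ≤ Q) c • res F (inf_le_left.trans hUW : U ⊓ Q ≤ W₀) s) := by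
      rw [mgerm_smul, mgerm_res, mgerm_res, h1, ← hc]
      exact congrArg (· • mgerm F hxW₀ s) (X.presheaf.germ_res_apply _ _ _ _).symm
    obtain ⟨O, hxO, i₁, i₂, he⟩ :=
      TopCat.Presheaf.germ_eq F.presheaf (U := U ⊓ Q) (V := U ⊓ Q) x hx' hx' _ _ h2
    refine ⟨O, hxO, fun y hy hyU => ⟨X.presheaf.germ Q y (i₁.le hy).2 c, ?_⟩⟩
    have e := congrArg (mgerm F hy) (show res F i₁.le (res F inf_le_left (b i)) =
      res F i₂.le (resO X (inf_le_right : U ⊓ Q ≤ Q) c • res F (inf_le_left.trans hUW : U ⊓ Q ≤ W₀) s) from he)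
    rw [mgerm_res, mgerm_res, mgerm_res, mgerm_smul, mgerm_res] at e
    exact e.trans (congrArg (· • mgerm F (hUW hyU) s) (X.presheaf.germ_res_apply _ _ _ _))
  choose O hxO hO using hnear
  let W : X.Opens := U ⊓ ⟨⋂ i, (O i : Set X), isOpen_iInter_of_finite fun i => (O i).2⟩
  refine ⟨W, res F (inf_le_left.trans hUW) s, ⟨hxU, Set.mem_iInter.2 hxO⟩, isGen_of_stalk fun y hy => ?_⟩
  rw [mgerm_res]
  let f := LinearMap.toSpanSingleton (X.presheaf.stalk y) _ (mgerm F (hUW hy.1) s)
  have hsurj : Function.Surjective f := by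
    rw [← LinearMap.range_eq_top, eq_top_iff, ← LocFree.span_germ hU hF hy.1 b hb, Submodule.span_le]
    rintro _ ⟨i, rfl⟩
    obtain ⟨a, ha⟩ := hO i y (Set.mem_iInter.1 hy.2 i) hy.1
    exact ⟨a, ha.symm⟩
  obtain ⟨ey⟩ := h y
  exact ⟨fun a a' haa =>
    OrzechProperty.injective_of_surjective_endomorphism (ey.toLinearMap ∘ₗ f)
      (ey.surjective.comp hsurj) (congrArg ey haa), hsurj⟩

end Groth.Agent.RefStalk
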