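import Groth.Agent.RefStalk.Coherent
import Groth.Agent.ZCl.Basic
import Groth.Agent.QC.Closure
import Mathlib

/-!
Reflexivity of coherent modules is detected on stalks.
-/

set_option autoImplicit false
set_option backward.isDefEq.respectTransparency false

universe u

open CategoryTheory CategoryTheory.Limits AlgebraicGeometry TopologicalSpace Opposite
open Groth.Agent.WeakAssLib (mgerm mgerm_smul mgerm_res)
open Groth.Agent.QC (res resO resO_resO)

noncomputable section

namespace Groth.Agent.RefStalk

variable {X : Scheme.{u}}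

/-- The stalk of the structure sheaf as a module is the local ring. -/
theorem exists_structStalk (x : X) :
    ∃ e : X.presheaf.stalk x ≃ₗ[X.presheaf.stalk x] (Coh.structureModule X).presheaf.stalk x,
      ∀ a, e a = a • mgerm (Coh.structureModule X) (show x ∈ (⊤ : X.Opens) from trivial)
        (1 : Γ(X, (⊤ : X.Opens))) := by
  let one := mgerm (Coh.structureModule X) (show x ∈ (⊤ : X.Opens) from trivial) (1 : Γ(X, (⊤ : X.Opens)))
  let f := LinearMap.toSpanSingleton (X.presheaf.stalk x) _ one
  have hf : ∀ (U : X.Opens) (hU : x ∈ U) (r : Γ(X, U)),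
      f (X.presheaf.germ U x hU r) = mgerm (Coh.structureModule X) hU (r : Γ(Coh.structureModule X, U)) := by
    intro U hU r
    change X.presheaf.germ U x hU r • one = _
    have h1 : one = mgerm (Coh.structureModule X) hU
        (res (Coh.structureModule X) (le_top : U ≤ ⊤) (1 : Γ(X, (⊤ : X.Opens)))) :=
      (mgerm_res (Coh.structureModule X) (le_top : U ≤ ⊤) hU _).symm
    rw [h1, ← mgerm_smul]
    congr 1
    change r * resO X (le_top : U ≤ ⊤) 1 = r
    rw [map_one, mul_one]
  refine ⟨LinearEquiv.ofBijective f ⟨?_, fun t => ?_⟩, fun a => rfl⟩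
  · rw [injective_iff_map_eq_zero]
    intro a ha
    obtain ⟨U, hU, r, rfl⟩ := TopCat.Presheaf.exists_germ_eq X.presheaf a
    rw [hf, ← map_zero (mgerm (Coh.structureModule X) hU)] at ha
    obtain ⟨W, hW, i₁, i₂, he⟩ := TopCat.Presheaf.germ_eq (Coh.structureModule X).presheaf x hU hU _ _ ha
    have he' : resO X i₁.le r = resO X i₂.le 0 := he
    rw [map_zero] at he'
    rw [← X.presheaf.germ_res_apply i₁ x hW r]
    exact (congrArg (X.presheaf.germ W x hW) he').trans (map_zero _)
  · obtain ⟨U, hU, r, rfl⟩ := TopCat.Presheaf.exists_germ_eq (Coh.structureModule X).presheaf t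
    exact ⟨X.presheaf.germ U x hU r, hf U hU r⟩

/-- Coherence of the structure module. -/
theorem isCoh_structureModule [IsLocallyNoetherian X] : Coh.IsCoh (Coh.structureModule X) :=
  ⟨Groth.Agent.QC.isQCoh_unit X, TMul.isFT_structureModule X⟩

/-- Germs of the sheaf Hom are maps of stalks, for coherent source. -/
theorem bijective_evalStalk_of_isCoh [IsLocallyNoetherian X] {F G : X.Modules} (hF : Coh.IsCoh F) (x : X) :
    Function.Bijective (RefHull.evalStalk F G x) :=
  evalStalk_bijective (Groth.Agent.QC.isFP_of_isQCoh_of_isFT (hM := hF.1) hF.2) x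

/-- The germ of the biduality map at a point. -/
theorem evalStalk_stalkMap_bidualMap (F : X.Modules) (x : X) (v : F.presheaf.stalk x) :
    RefHull.evalStalk (RefHull.dual F) (Coh.structureModule X) x (RefHull.stalkMapₗ (RefHull.bidualMap F) x v) =
      RefHull.bidualAt F x v := by
  obtain ⟨U, hU, s, rfl⟩ := TopCat.Presheaf.exists_germ_eq F.presheaf v
  rw [RefHull.stalkMapₗ_germ, RefHull.evalStalk_germ, RefHull.bidualMap_app_apply]

theorem bijective_bidualAt_iff [IsLocallyNoetherian X] {F : X.Modules} (hF : Coh.IsCoh F) (x : X) :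
    Function.Bijective (RefHull.bidualAt F x) ↔ RefHull.IsReflexiveAt F x := by
  obtain ⟨e, -⟩ := exists_structStalk x
  let ev := LinearEquiv.ofBijective _ (bijective_evalStalk_of_isCoh (G := Coh.structureModule X) hF x)
  let D : (RefHull.dual F).presheaf.stalk x ≃ₗ[X.presheaf.stalk x]
      Module.Dual (X.presheaf.stalk x) (F.presheaf.stalk x) :=
    ev ≪≫ₗ LinearEquiv.arrowCongr (LinearEquiv.refl _ _) e.symm
  let Ψ : Module.Dual (X.presheaf.stalk x) (Module.Dual (X.presheaf.stalk x) (F.presheaf.stalk x)) ≃ₗ[X.presheaf.stalk x]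
      RefHull.StalkHom (RefHull.dual F) (Coh.structureModule X) x :=
    LinearEquiv.arrowCongr D.symm e
  have h : (RefHull.bidualAt F x : F.presheaf.stalk x → _) =
      Ψ ∘ Module.Dual.eval (X.presheaf.stalk x) (F.presheaf.stalk x) := by
    funext v
    refine LinearMap.ext fun θ => ?_
    change RefHull.evalStalk F (Coh.structureModule X) x θ v = e (e.symm (ev θ v))
    rw [e.apply_symm_apply]
    rfl
  rw [h, Ψ.bijective.of_comp_iff']
  exact ⟨fun hb => ⟨hb⟩, fun hr => hr.bijective_dual_eval'⟩

/-- A coherent module on a locally Noetherian scheme is reflexive exactly when its stalks are. -/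
theorem isReflexive_iff [IsLocallyNoetherian X] {F : X.Modules} (hF : Coh.IsCoh F) :
    RefHull.IsReflexive F ↔ ∀ x : X, RefHull.IsReflexiveAt F x := by
  have hb : ∀ x, Function.Bijective (RefHull.evalStalk (RefHull.dual F) (Coh.structureModule X) x) := fun x =>
    bijective_evalStalk_of_isCoh (isCoh_homSh hF isCoh_structureModule) x
  have key : ∀ x, Function.Bijective (RefHull.stalkMapₗ (RefHull.bidualMap F) x) ↔ RefHull.IsReflexiveAt F x :=
    fun x => by
    rw [← bijective_bidualAt_iff hF, ← (hb x).of_comp_iff']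
    exact iff_of_eq (congrArg Function.Bijective (funext fun v => evalStalk_stalkMap_bidualMap F x v))
  refine ⟨fun h x => (key x).1 ?_, fun h => Groth.Agent.ZCl.isIso_of_stalk _ fun x => (key x).2 (h x)⟩
  haveI : IsIso (RefHull.bidualMap F) := h
  haveI : IsIso (RefHull.bidualMap F).mapPresheaf :=
    (inferInstance : IsIso ((Scheme.Modules.toPresheaf X).map (RefHull.bidualMap F)))
  exact ConcreteCategory.bijective_of_isIso
    ((TopCat.Presheaf.stalkFunctor Ab x).map (RefHull.bidualMap F).mapPresheaf)

end Groth.Agent.RefStalk
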