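import Groth.Agent.RefStalk.Codim
import Groth.Agent.RefStalk.Refl
import Groth.Agent.CDivNormal.Primes
import Mathlib

/-!
Stalks of coherent modules on integral schemes inside the generic stalk; morphisms from global sections of
the sheaf Hom; extension of elements of reflexive modules from codimension one.
-/

set_option autoImplicit false
set_option backward.isDefEq.respectTransparency false

universe u

open CategoryTheory CategoryTheory.Limits AlgebraicGeometry TopologicalSpace Opposite
open Groth.Agent.QC (res res_res res_smul isLoc_of_isQCoh)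
open Groth.Agent.WeakAssLib (mgerm mgerm_smul mgerm_res)

noncomputable section

namespace Groth.Agent.RefStalk

variable {X : Scheme.{u}}

/-- Specialisation of stalks of modules. -/
abbrev msp (M : X.Modules) {x y : X} (h : x ⤳ y) : M.presheaf.stalk y →+ M.presheaf.stalk x :=
  (M.presheaf.stalkSpecializes h).hom

theorem msp_germ (M : X.Modules) {x y : X} (h : x ⤳ y) {U : X.Opens} (hy : y ∈ U) (s : Γ(M, U)) :
    msp M h (mgerm M hy s) = mgerm M (h.mem_open U.2 hy) s :=
  M.presheaf.germ_stalkSpecializes_apply hy h s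

theorem msp_smul (M : X.Modules) {x y : X} (h : x ⤳ y) (a : X.presheaf.stalk y) (v : M.presheaf.stalk y) :
    msp M h (a • v) = (X.presheaf.stalkSpecializes h).hom a • msp M h v := by
  obtain ⟨Ua, ha, r, rfl⟩ := TopCat.Presheaf.exists_germ_eq X.presheaf a
  obtain ⟨Uv, hv, m, rfl⟩ := TopCat.Presheaf.exists_germ_eq M.presheaf v
  rw [← TopCat.Presheaf.germ_res_apply X.presheaf (homOfLE (inf_le_left : Ua ⊓ Uv ≤ Ua)) y ⟨ha, hv⟩,
    ← TopCat.Presheaf.germ_res_apply M.presheaf (homOfLE (inf_le_right : Ua ⊓ Uv ≤ Uv)) y ⟨ha, hv⟩]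
  have h1 := msp_germ M h (U := Ua ⊓ Uv) ⟨ha, hv⟩
    (X.presheaf.map (homOfLE (inf_le_left : Ua ⊓ Uv ≤ Ua)).op r • M.presheaf.map (homOfLE (inf_le_right : Ua ⊓ Uv ≤ Uv)).op m)
  rw [mgerm_smul, mgerm_smul] at h1
  refine h1.trans ?_
  congr 1
  · exact (X.presheaf.germ_stalkSpecializes_apply _ h _).symm
  · exact (msp_germ M h (U := Ua ⊓ Uv) ⟨ha, hv⟩ _).symm

theorem msp_msp (M : X.Modules) {x w y : X} (h : x ⤳ w) (h' : w ⤳ y) (v : M.presheaf.stalk y) :
    msp M h (msp M h' v) = msp M (h.trans h') v := by
  show (M.presheaf.stalkSpecializes h).hom ((M.presheaf.stalkSpecializes h').hom v) = _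
  rw [← ConcreteCategory.comp_apply, TopCat.Presheaf.stalkSpecializes_comp]

theorem stalkMap_msp {F G : X.Modules} (φ : F ⟶ G) {x y : X} (h : x ⤳ y) (v : F.presheaf.stalk y) :
    RefHull.stalkMapₗ φ x (msp F h v) = msp G h (RefHull.stalkMapₗ φ y v) := by
  obtain ⟨U, hy, s, rfl⟩ := TopCat.Presheaf.exists_germ_eq F.presheaf v
  rw [RefHull.stalkMapₗ_germ]
  exact (congrArg _ (msp_germ F h hy s)).trans
    ((RefHull.stalkMapₗ_germ φ x _ s).trans (msp_germ G h hy _).symm)

variable [IsIntegral X]

abbrev toGen (y : X) : genericPoint X ⤳ y := (genericPoint_spec X).specializes (Set.mem_univ y)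

theorem stalkSpecializes_injective (y : X) :
    Function.Injective (X.presheaf.stalkSpecializes (toGen y)).hom :=
  IsFractionRing.injective (X.presheaf.stalk y) X.functionField

/-- A torsion-free stalk embeds in the generic stalk. -/
theorem msp_injective {M : X.Modules} (hM : Coh.IsQCoh M) (y : X)
    [Module.IsTorsionFree (X.presheaf.stalk y) (M.presheaf.stalk y)] : Function.Injective (msp M (toGen y)) := by
  rw [injective_iff_map_eq_zero]
  intro v hv
  obtain ⟨U, hU, hyU, -⟩ := exists_isAffineOpen_mem_and_subset (x := y) (U := (⊤ : X.Opens)) trivial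
  obtain ⟨a, s, ha, has⟩ := WeakAssLib.exists_germ hU (isLoc_of_isQCoh hU (hM := hM)) hyU v
  have h1 := congrArg (msp M (toGen y)) has
  rw [msp_smul, hv, smul_zero, msp_germ] at h1
  obtain ⟨b, hb, hbs⟩ := (WeakAssLib.germ_eq_zero_iff hU (isLoc_of_isQCoh hU (hM := hM))
    ((toGen y).mem_open U.2 hyU) s).1 h1.symm
  have h2 := congrArg (mgerm M hyU) hbs
  rw [mgerm_smul, map_zero, ← has, smul_smul] at h2
  refine (smul_eq_zero.1 h2).resolve_left (mul_ne_zero (fun h0 => hb ?_) (WeakAssLib.isUnit_germ hU hyU ha).ne_zero)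
  rw [AlgebraicGeometry.germ_injective_of_isIntegral (X := X) (U := U) y hyU (h0.trans (map_zero _).symm)]
  exact Ideal.zero_mem _

/-- An element of the generic stalk coming from a generization `x` of `y` is a fraction at `y`. -/
theorem exists_mem_smul {M : X.Modules} (hM : Coh.IsQCoh M) {x y : X} (h : x ⤳ y)
    (w : M.presheaf.stalk x) : ∃ (d : X.presheaf.stalk y) (c : M.presheaf.stalk y), d ∉ CDivNormal.genPrime h ∧
      (X.presheaf.stalkSpecializes (toGen y)).hom d • msp M (toGen x) w = msp M (toGen y) c := by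
  obtain ⟨U, hU, hyU, -⟩ := exists_isAffineOpen_mem_and_subset (x := y) (U := (⊤ : X.Opens)) trivial
  have hxU := h.mem_open U.2 hyU
  obtain ⟨a, s, ha, has⟩ := WeakAssLib.exists_germ hU (isLoc_of_isQCoh hU (hM := hM)) hxU w
  refine ⟨(X.presheaf.germ U y hyU).hom a, mgerm M hyU s,
    fun hm => ha ((CDivNormal.germ_mem_genPrime h hU hyU a).1 hm), ?_⟩
  have h1 := congrArg (msp M (toGen x)) has
  rw [msp_smul, msp_germ] at h1
  rw [msp_germ]
  refine Eq.trans (congrArg (· • _) ?_) h1
  exact (X.presheaf.germ_stalkSpecializes_apply hyU (toGen y) a).trans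
    (X.presheaf.germ_stalkSpecializes_apply hxU (toGen x) a).symm

variable [IsLocallyNoetherian X] (hn : Pi1.IsNormalScheme X)
include hn

/-- An element of the generic stalk of a reflexive coherent module lying in all codimension one stalks
below `y` lies in the stalk at `y`. -/
theorem mem_range_msp {M : X.Modules} (hM : Coh.IsCoh M)
    (hr : ∀ x : X, Module.IsReflexive (X.presheaf.stalk x) (M.presheaf.stalk x))
    (v : M.presheaf.stalk (genericPoint X)) (y : X)
    (h : ∀ x : X, x ⤳ y → Order.coheight x = 1 → ∃ w, msp M (toGen x) w = v) :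
    ∃ w, msp M (toGen y) w = v := by
  have hfin : ∃ n : ℕ, Order.coheight y ≤ (n : ℕ∞) := by
    have h1 : ringKrullDim (X.presheaf.stalk y) < ⊤ := ringKrullDim_lt_top
    rw [ringKrullDim_stalk_eq_coheight] at h1
    obtain ⟨n, hn'⟩ := ENat.ne_top_iff_exists.1 (fun e => h1.ne (by rw [e]; rfl) : Order.coheight y ≠ ⊤)
    exact ⟨n, hn'.ge⟩
  obtain ⟨n, hn'⟩ := hfin
  induction n using Nat.strong_induction_on generalizing y with
  | _ n ih =>
    haveI : IsDomain (X.presheaf.stalk y) := (hn y).1
    haveI := hr y
    haveI := isTorsionFree_of_isReflexive (R := X.presheaf.stalk y) (M.presheaf.stalk y)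
    rcases le_or_gt (ringKrullDim (X.presheaf.stalk y)) 1 with h1 | h1
    · rw [ringKrullDim_stalk_eq_coheight] at h1
      have h1' : Order.coheight y ≤ 1 := WithBot.coe_le_coe.1 h1
      rcases lt_or_eq_of_le h1' with h0 | h0
      · have hy : y = genericPoint X := by
          have h00 : Order.coheight y = 0 := ENat.lt_one_iff_eq_zero.1 h0
          exact (Specializes.antisymm (Order.coheight_eq_zero.1 h00 (show y ≤ genericPoint X from toGen y) :
            y ⤳ genericPoint X) (toGen y)).eq
        subst hy
        refine ⟨v, ?_⟩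
        show (M.presheaf.stalkSpecializes _).hom v = v
        rw [TopCat.Presheaf.stalkSpecializes_refl]
        rfl
      · exact h y specializes_rfl h0
    · obtain ⟨a, ha, b, hb, hareg, hab⟩ := S2875.exists_pair (two_le_depth hn y (two_le_iff.2 h1.not_ge))
      let I : Ideal (X.presheaf.stalk y) :=
        { carrier := {d | ∃ c, msp M (toGen y) c = (X.presheaf.stalkSpecializes (toGen y)).hom d • v}
          zero_mem' := ⟨0, by rw [map_zero, map_zero, zero_smul]⟩
          add_mem' := fun {d d'} ⟨c, hc⟩ ⟨c', hc'⟩ => ⟨c + c', by rw [map_add, map_add, add_smul, hc, hc']⟩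
          smul_mem' := fun r d ⟨c, hc⟩ => ⟨r • c, by rw [msp_smul, hc, smul_eq_mul, map_mul, mul_smul]⟩ }
      have hle : IsLocalRing.maximalIdeal (X.presheaf.stalk y) ≤ I.radical := by
        rw [Ideal.radical_eq_sInf]
        refine le_sInf fun P hP => ?_
        by_contra hc
        haveI := hP.2
        obtain ⟨x, hxy, rfl⟩ := CDivNormal.exists_genPrime_eq y P
        have hne : x ≠ y := by
          rintro rfl
          refine hc fun r hr hu => hr ?_
          rwa [TopCat.Presheaf.stalkSpecializes_refl] at hu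
        have hlt : y < x := lt_iff_le_not_ge.2 ⟨hxy, fun h' => hne (hxy.antisymm h').eq⟩
        have hle := (Order.coheight_add_one_le hlt).trans hn'
        obtain ⟨m, hm⟩ := ENat.ne_top_iff_exists.1 (fun e => by rw [e] at hle; simp at hle :
          Order.coheight x ≠ ⊤)
        rw [← hm, ← Nat.cast_one, ← Nat.cast_add, Nat.cast_le] at hle
        obtain ⟨w, hw⟩ := ih m (by omega) x (fun z hz hz1 => h z (hz.trans hxy) hz1) hm.ge
        obtain ⟨d, c, hd, hdc⟩ := exists_mem_smul hM.1 hxy w
        exact hd (hP.1 ⟨c, by rw [← hdc, hw]⟩)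
      obtain ⟨k, hk⟩ := Ideal.exists_pow_le_of_le_radical_of_fg hle (IsNoetherian.noetherian _)
      clear hle
      induction k with
      | zero =>
        obtain ⟨c, hc⟩ := hk (show (1 : X.presheaf.stalk y) ∈ _ by simp)
        exact ⟨c, by rw [hc, map_one, one_smul]⟩
      | succ k ihk =>
        refine ihk fun d hd => ?_
        obtain ⟨u, hu⟩ := hk (show a * d ∈ _ by rw [pow_succ']; exact Ideal.mul_mem_mul ha hd)
        obtain ⟨w, hw⟩ := hk (show b * d ∈ _ by rw [pow_succ']; exact Ideal.mul_mem_mul hb hd)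
        have he : b • u = a • w := msp_injective hM.1 y (by
          rw [msp_smul, msp_smul, hu, hw, map_mul, map_mul, smul_smul, smul_smul]; congr 1; ring)
        have hdiv : ∀ φ : Module.Dual (X.presheaf.stalk y) (M.presheaf.stalk y), a ∣ φ u := fun φ => by
          refine hab (φ u) (φ w) ?_
          simpa using congrArg φ he
        have ha0 : a ≠ 0 := fun e => one_ne_zero (hareg (by simp [e] :
          a • (1 : X.presheaf.stalk y) = a • 0))
        choose q hq using hdiv
        let ξ : Module.Dual (X.presheaf.stalk y) (Module.Dual (X.presheaf.stalk y) (M.presheaf.stalk y)) :=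
          { toFun := q
            map_add' := fun φ ψ => mul_left_cancel₀ ha0 (by rw [← hq, mul_add, ← hq, ← hq]; rfl)
            map_smul' := fun r φ => mul_left_cancel₀ ha0 (by
              rw [← hq, RingHom.id_apply, smul_eq_mul, mul_left_comm, ← hq]; rfl) }
        obtain ⟨c, hc⟩ := (Module.bijective_dual_eval (X.presheaf.stalk y) (M.presheaf.stalk y)).2 ξ
        have hcu : u = a • c := (Module.bijective_dual_eval (X.presheaf.stalk y) (M.presheaf.stalk y)).1
          (LinearMap.ext fun φ => by
            rw [map_smul, hc, LinearMap.smul_apply, Module.Dual.eval_apply, smul_eq_mul]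
            exact hq φ)
        refine ⟨c, ?_⟩
        have hA : IsUnit ((X.presheaf.stalkSpecializes (toGen y)).hom a : X.functionField) :=
          Ne.isUnit fun e => ha0 (stalkSpecializes_injective y (e.trans (map_zero _).symm))
        refine hA.smul_bijective.1 ?_
        show (X.presheaf.stalkSpecializes (toGen y)).hom a • _ = (X.presheaf.stalkSpecializes (toGen y)).hom a • _
        rw [← msp_smul, ← hcu, hu, map_mul, mul_smul]

omit hn

omit [IsIntegral X] [IsLocallyNoetherian X] in
/-- A global section of the sheaf Hom is a morphism. -/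
theorem exists_hom {F G : X.Modules} (g : Γ(RefHull.homSh F G, (⊤ : X.Opens))) :
    ∃ ψ : F ⟶ G, ∀ y : X, RefHull.stalkMapₗ ψ y = g.1 ⟨y, trivial⟩ := by
  choose n hn' using fun (U : X.Opens) (s : Γ(F, U)) => exists_app g (le_top : U ≤ ⊤) s
  let app : ∀ U : X.Opens, Γ(F, U) →+ Γ(G, U) := fun U =>
    { toFun := n U
      map_zero' := germ_ext fun y hy => by rw [hn', map_zero, map_zero, map_zero]
      map_add' := fun s t => germ_ext fun y hy => by rw [hn', map_add, map_add, map_add, hn', hn'] }
  let ψ : F ⟶ G := ⟨PresheafOfModules.homMk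
    { app := fun U => AddCommGrpCat.ofHom (app U.unop)
      naturality := fun {U V} i => by
        ext s
        refine germ_ext (U := V.unop) fun y hy => ?_
        show mgerm G hy (n V.unop (F.presheaf.map i s)) = mgerm G hy (G.presheaf.map i (n U.unop s))
        rw [hn']
        refine Eq.trans ?_ ((TopCat.Presheaf.germ_res_apply' G.presheaf i y hy (n U.unop s)).trans
          (hn' U.unop s y (i.unop.le hy))).symm
        exact congrArg _ (TopCat.Presheaf.germ_res_apply' F.presheaf i y hy s) }
    (fun U r s => germ_ext (U := U.unop) fun y hy => by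
      show mgerm G hy (n U.unop ((show Γ(X, U.unop) from r) • (show Γ(F, U.unop) from s))) =
        mgerm G hy ((show Γ(X, U.unop) from r) • n U.unop s)
      rw [hn', mgerm_smul, mgerm_smul, hn', map_smul])⟩
  refine ⟨ψ, fun y => LinearMap.ext fun v => ?_⟩
  obtain ⟨U, hy, s, rfl⟩ := TopCat.Presheaf.exists_germ_eq F.presheaf v
  rw [RefHull.stalkMapₗ_germ]
  exact hn' U s y hy

/-- Over a discrete valuation ring the map to the double dual of a finite module is surjective. -/
theorem eval_surjective {R M : Type u} [CommRing R] [IsDomain R] [IsPrincipalIdealRing R] [AddCommGroup M]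
    [Module R M] [Module.Finite R M] : Function.Surjective (Module.Dual.eval R M) := by
  let T := Submodule.torsion R M
  let π := T.mkQ
  haveI : Module.Finite R (M ⧸ T) := Module.Finite.quotient R T
  haveI : Module.Free R (M ⧸ T) := Module.free_of_finite_type_torsion_free'
  have hb : Function.Bijective (π.dualMap) := by
    refine ⟨LinearMap.dualMap_injective_of_surjective T.mkQ_surjective, fun φ => ?_⟩
    refine ⟨T.liftQ φ fun t ht => ?_, LinearMap.ext fun m => rfl⟩
    obtain ⟨a, ha⟩ := (Submodule.mem_torsion_iff t).1 ht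
    have h := congrArg φ ha
    rw [map_zero, Submonoid.smul_def, map_smul, smul_eq_mul, mul_eq_zero] at h
    exact h.resolve_left (nonZeroDivisors.ne_zero a.2)
  intro ξ
  obtain ⟨q, hq⟩ := (Module.bijective_dual_eval R (M ⧸ T)).2 (ξ ∘ₗ π.dualMap)
  obtain ⟨m, rfl⟩ := T.mkQ_surjective q
  refine ⟨m, LinearMap.ext fun φ => ?_⟩
  obtain ⟨φ', rfl⟩ := hb.2 φ
  exact LinearMap.congr_fun hq φ'

omit [IsIntegral X] in
/-- Surjectivity of the biduality map at a point with principal ideal local ring. -/
theorem surjective_stalkMap_bidualMap {F : X.Modules} (hF : Coh.IsCoh F) (x : X)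
    [IsDomain (X.presheaf.stalk x)] [IsPrincipalIdealRing (X.presheaf.stalk x)] :
    Function.Surjective (RefHull.stalkMapₗ (RefHull.bidualMap F) x) := by
  haveI := RegDual.finite_stalk hF x
  obtain ⟨e, -⟩ := exists_structStalk x
  let ev := LinearEquiv.ofBijective _ (bijective_evalStalk_of_isCoh (G := Coh.structureModule X) hF x)
  let D : (RefHull.dual F).presheaf.stalk x ≃ₗ[X.presheaf.stalk x]
      Module.Dual (X.presheaf.stalk x) (F.presheaf.stalk x) :=
    ev ≪≫ₗ LinearEquiv.arrowCongr (LinearEquiv.refl _ _) e.symm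
  let Ψ : Module.Dual (X.presheaf.stalk x) (Module.Dual (X.presheaf.stalk x) (F.presheaf.stalk x)) ≃ₗ[X.presheaf.stalk x]
      RefHull.StalkHom (RefHull.dual F) (Coh.structureModule X) x :=
    LinearEquiv.arrowCongr D.symm e
  have h : (RefHull.bidualAt F x : F.presheaf.stalk x → _) =
      Ψ ∘ Module.Dual.eval (X.presheaf.stalk x) (F.presheaf.stalk x) := by
    funext v
    refine LinearMap.ext fun θ => ?_
    change RefHull.evalStalk F (Coh.structureModule X) x θ v = e (e.symm (ev θ v))
    rw [e.apply_symm_apply]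
    rfl
  have hb := bijective_evalStalk_of_isCoh (G := Coh.structureModule X)
    (isCoh_homSh hF (isCoh_structureModule (X := X))) x
  intro w
  obtain ⟨m, hm⟩ := eval_surjective (R := X.presheaf.stalk x) (M := F.presheaf.stalk x)
    (Ψ.symm (RefHull.evalStalk (RefHull.dual F) (Coh.structureModule X) x w))
  refine ⟨m, hb.1 ?_⟩
  rw [evalStalk_stalkMap_bidualMap, h, Function.comp_apply, hm, Ψ.apply_symm_apply]

end Groth.Agent.RefStalk
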