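import Groth.Agent.RefStalk.Span
import Groth.Agent.LocFree.Rank
import Mathlib

/-!
The stalk of the sheaf Hom out of a finitely presented module is the module of linear maps of stalks.
-/

set_option autoImplicit false
set_option backward.isDefEq.respectTransparency false

universe u

open CategoryTheory CategoryTheory.Limits AlgebraicGeometry TopologicalSpace Opposite
open Groth.Agent.QC (res resO res_res res_smul resO_resO isLoc_of_isQCoh)
open Groth.Agent.WeakAssLib (mgerm mgerm_smul mgerm_res)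

noncomputable section

namespace Groth.Agent.RefStalk

variable {X : Scheme.{u}} {F G : X.Modules}

/-- Two families of stalk maps agreeing at a point agree nearby. -/
theorem evalStalk_injective (hF : CohB1.IsFT F) (x : X) : Function.Injective (RefHull.evalStalk F G x) := by
  rw [injective_iff_map_eq_zero]
  intro θ hθ
  obtain ⟨W, ι, hι, s, hxW, hs⟩ := exists_spanning_nhd hF x
  obtain ⟨U, hxU, g, rfl⟩ := TopCat.Presheaf.exists_germ_eq (RefHull.homSh F G).presheaf θ
  rw [RefHull.evalStalk_germ] at hθ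
  have h : ∀ i, ∃ N : X.Opens, x ∈ N ∧ ∀ (y : X) (hN : y ∈ N) (hyU : y ∈ U) (hyW : y ∈ W),
      g.1 ⟨y, hyU⟩ (mgerm F hyW (s i)) = 0 := fun i => by
    obtain ⟨N, hxN, j, n, hn⟩ := RefHull.isLocSect_of_mem g (U ⊓ W) (homOfLE inf_le_left)
      (F.presheaf.map (homOfLE (inf_le_right : U ⊓ W ≤ W)).op (s i)) ⟨x, hxU, hxW⟩
    have h0 : G.presheaf.germ N x hxN n = G.presheaf.germ N x hxN 0 := by
      rw [map_zero, ← hn ⟨x, hxN⟩]
      exact LinearMap.congr_fun hθ _
    obtain ⟨N', hxN', i₁, i₂, he⟩ := TopCat.Presheaf.germ_eq G.presheaf x hxN hxN n 0 h0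
    refine ⟨N', hxN', fun y hy hyU hyW => ?_⟩
    have e := hn ⟨y, i₁.le hy⟩
    rw [TopCat.Presheaf.germ_res_apply] at e
    refine e.trans ?_
    rw [← TopCat.Presheaf.germ_res_apply G.presheaf i₁ y hy n, he, map_zero, map_zero]
  choose N hxN hN using h
  let N₀ : X.Opens := ⟨⋂ i, (N i : Set X), isOpen_iInter_of_finite fun i => (N i).2⟩
  have hx₀ : x ∈ U ⊓ W ⊓ N₀ := ⟨⟨hxU, hxW⟩, Set.mem_iInter.2 hxN⟩
  have hle : U ⊓ W ⊓ N₀ ≤ U := inf_le_left.trans inf_le_left
  rw [← TopCat.Presheaf.germ_res_apply (RefHull.homSh F G).presheaf (homOfLE hle) x hx₀ g,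
    show (RefHull.homSh F G).presheaf.map (homOfLE hle).op g = 0 from ?_, map_zero]
  refine Subtype.ext (funext fun y => ?_)
  change g.1 ⟨y.1, hle y.2⟩ = 0
  refine LinearMap.ext_on_range (hs y.1 y.2.1.2) fun i => ?_
  exact hN i y.1 (Set.mem_iInter.1 y.2.2 i) (hle y.2) y.2.1.2

/-- The germ map to the stalk is the localisation. -/
theorem exists_loc {U : X.Opens} (hU : IsAffineOpen U) (hF : Coh.IsQCoh F) {x : X} (hx : x ∈ U) :
    letI := Module.compHom (F.presheaf.stalk x) (X.presheaf.germ U x hx).hom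
    ∃ g : Γ(F, U) →ₗ[Γ(X, U)] F.presheaf.stalk x,
      IsLocalizedModule (hU.primeIdealOf ⟨x, hx⟩).asIdeal.primeCompl g ∧ ∀ s, g s = mgerm F hx s := by
  letI := Module.compHom (F.presheaf.stalk x) (X.presheaf.germ U x hx).hom
  let g : Γ(F, U) →ₗ[Γ(X, U)] F.presheaf.stalk x :=
    { toFun := mgerm F hx
      map_add' := map_add _
      map_smul' := fun a s => mgerm_smul F hx a s }
  have hL := isLoc_of_isQCoh hU (hM := hF)
  refine ⟨g, ⟨fun a => ?_, fun t => ?_, fun {s s'} hs => ?_⟩, fun s => rfl⟩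
  · rw [Module.End.isUnit_iff]
    exact (WeakAssLib.isUnit_germ hU hx a.2).smul_bijective
  · obtain ⟨a, s, ha, has⟩ := WeakAssLib.exists_germ hU hL hx t
    exact ⟨(s, ⟨a, ha⟩), has⟩
  · have h0 : mgerm F hx (s - s') = 0 := by
      rw [map_sub, sub_eq_zero]; exact hs
    obtain ⟨a, ha, has⟩ := (WeakAssLib.germ_eq_zero_iff hU hL hx _).1 h0
    exact ⟨⟨a, ha⟩, by
      change a • s = a • s'
      rw [← sub_eq_zero, ← smul_sub, has]⟩

/-- A linear map out of sections over an affine open, semilinear for restriction to a smaller open,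
defines a section of the sheaf Hom there. -/
theorem exists_section_of_linear {U W : X.Opens} (hU : IsAffineOpen U) (hF : Coh.IsQCoh F) (hWU : W ≤ U)
    (ψ : Γ(F, U) →+ Γ(G, W)) (hψsmul : ∀ (a : Γ(X, U)) (s : Γ(F, U)), ψ (a • s) = resO X hWU a • ψ s) :
    ∃ g : Γ(RefHull.homSh F G, W), ∀ (y : X) (hy : y ∈ W) (s : Γ(F, U)),
      g.1 ⟨y, hy⟩ (mgerm F (hWU hy) s) = mgerm G hy (ψ s) := by
  have hy : ∀ (y : X) (hyW : y ∈ W), ∃ f : RefHull.StalkHom F G y,
      ∀ s : Γ(F, U), f (mgerm F (hWU hyW) s) = mgerm G hyW (ψ s) := fun y hyW => by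
    letI := Module.compHom (F.presheaf.stalk y) (X.presheaf.germ U y (hWU hyW)).hom
    letI := Module.compHom (G.presheaf.stalk y) (X.presheaf.germ U y (hWU hyW)).hom
    letI := (X.presheaf.germ U y (hWU hyW)).hom.toAlgebra
    haveI := hU.isLocalization_stalk ⟨y, hWU hyW⟩
    haveI : IsScalarTower Γ(X, U) (X.presheaf.stalk y) (F.presheaf.stalk y) :=
      ⟨fun a c m => mul_smul ((X.presheaf.germ U y (hWU hyW)).hom a) c m⟩
    haveI : IsScalarTower Γ(X, U) (X.presheaf.stalk y) (G.presheaf.stalk y) :=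
      ⟨fun a c m => mul_smul ((X.presheaf.germ U y (hWU hyW)).hom a) c m⟩
    obtain ⟨g, hg, hgs⟩ := exists_loc hU hF (hWU hyW)
    let gG : Γ(F, U) →ₗ[Γ(X, U)] G.presheaf.stalk y :=
      { toFun := fun s => mgerm G hyW (ψ s)
        map_add' := fun s t => by rw [map_add, map_add]
        map_smul' := fun a s => by
          rw [hψsmul, mgerm_smul]
          exact congrArg (· • mgerm G hyW (ψ s)) (X.presheaf.germ_res_apply _ _ _ _) }
    refine ⟨(IsLocalizedModule.lift (hU.primeIdealOf ⟨y, hWU hyW⟩).asIdeal.primeCompl g gG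
      fun a => by
        rw [Module.End.isUnit_iff]
        exact (WeakAssLib.isUnit_germ hU (hWU hyW) a.2).smul_bijective).extendScalarsOfIsLocalization
          (hU.primeIdealOf ⟨y, hWU hyW⟩).asIdeal.primeCompl (X.presheaf.stalk y), fun s => ?_⟩
    rw [← hgs, LinearMap.extendScalarsOfIsLocalization_apply', IsLocalizedModule.lift_apply]
    rfl
  choose f hf using hy
  -- it is a local section
  have hsec : RefHull.IsLocSect F G (U := W) fun y => f y.1 y.2 := fun V i m ⟨y, hyV⟩ => by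
    have hyU : y ∈ U := hWU (i.le hyV)
    obtain ⟨a, s, ha, has⟩ := WeakAssLib.exists_germ hU (isLoc_of_isQCoh hU (hM := hF)) hyU (mgerm F hyV m)
    have hya : y ∈ X.basicOpen a := (WeakAssLib.mem_primeIdealOf hU hyU a).2 ha
    have h1 : mgerm F (show y ∈ U ⊓ V from ⟨hyU, hyV⟩) (resO X (inf_le_left : U ⊓ V ≤ U) a • res F (inf_le_right : U ⊓ V ≤ V) m) =
        mgerm F (show y ∈ U ⊓ V from ⟨hyU, hyV⟩) (res F (inf_le_left : U ⊓ V ≤ U) s) := by
      rw [mgerm_smul, mgerm_res, mgerm_res, ← has]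
      exact congrArg (· • mgerm F hyV m) (X.presheaf.germ_res_apply _ _ _ _)
    obtain ⟨O, hyO, i₁, i₂, he⟩ := TopCat.Presheaf.germ_eq F.presheaf (U := U ⊓ V) (V := U ⊓ V) y ⟨hyU, hyV⟩ ⟨hyU, hyV⟩ _ _ h1
    let O' : X.Opens := O ⊓ X.basicOpen a
    have hO'U : O' ≤ U := inf_le_right.trans (X.basicOpen_le a)
    have hO'V : O' ≤ V := inf_le_left.trans (i₁.le.trans inf_le_right)
    have hu : IsUnit (resO X hO'U a) := by
      have h2 : IsUnit (resO X (X.basicOpen_le a) a) := X.toRingedSpace.isUnit_res_basicOpen a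
      have := h2.map (resO X (inf_le_right : O' ≤ X.basicOpen a))
      rwa [resO_resO] at this
    obtain ⟨b, hb⟩ := hu.exists_left_inv
    refine ⟨O', ⟨hyO, hya⟩, homOfLE hO'V, b • res G (hO'V.trans i.le) (ψ s), fun ⟨z, hz⟩ => ?_⟩
    have hzW : z ∈ W := i.le (hO'V hz)
    have hab : X.presheaf.germ O' z hz b * X.presheaf.germ U z (hO'U hz) a = 1 := by
      rw [show X.presheaf.germ U z (hO'U hz) a = X.presheaf.germ O' z hz (resO X hO'U a) from
        (X.presheaf.germ_res_apply _ _ _ _).symm, ← map_mul, hb, map_one]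
    have hm : X.presheaf.germ U z (hO'U hz) a • mgerm F (hO'V hz) m = mgerm F (hO'U hz) s := by
      have e := congrArg (mgerm F hz.1) (show res F i₁.le (resO X (inf_le_left : U ⊓ V ≤ U) a • res F (inf_le_right : U ⊓ V ≤ V) m) =
        res F i₂.le (res F (inf_le_left : U ⊓ V ≤ U) s) from he)
      rw [mgerm_res, mgerm_res, mgerm_smul, mgerm_res, mgerm_res] at e
      refine Eq.trans ?_ e
      exact congrArg (· • mgerm F (hO'V hz) m) (X.presheaf.germ_res_apply _ _ _ _).symm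
    change f z hzW (mgerm F (hO'V hz) m) = mgerm G hz (b • res G (hO'V.trans i.le) (ψ s))
    rw [mgerm_smul, mgerm_res, ← hf z hzW s, ← hm, map_smul, smul_smul]
    exact ((congrArg (· • _) hab).trans (one_smul _ _)).symm
  exact ⟨⟨fun y => f y.1 y.2, hsec⟩, fun y hy s => hf y hy s⟩

/-- A linear map of stalks comes from sections near the point. -/
theorem evalStalk_surjective_of_affine {U : X.Opens} (hU : IsAffineOpen U) (hF : Coh.IsQCoh F)
    (hfp : Module.FinitePresentation Γ(X, U) Γ(F, U)) {x : X} (hx : x ∈ U) :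
    Function.Surjective (RefHull.evalStalk F G x) := by
  classical
  intro φ
  obtain ⟨k, π, hπ⟩ := Module.Finite.exists_fin' Γ(X, U) Γ(F, U)
  have hb : ∀ i : Fin k, ∃ (W : X.Opens) (n : Γ(G, W)) (hxW : x ∈ W),
      W ≤ U ∧ mgerm G hxW n = φ (mgerm F hx (π (Pi.single i 1))) := fun i => by
    obtain ⟨W, hxW, n, hn⟩ := TopCat.Presheaf.exists_germ_eq G.presheaf (φ (mgerm F hx (π (Pi.single i 1))))
    exact ⟨W ⊓ U, res G inf_le_left n, ⟨hxW, hx⟩, inf_le_right, (mgerm_res G _ _ n).trans hn⟩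
  choose W₀ n₀ hxW₀ hW₀U hn₀ using hb
  let W₁ : X.Opens := U ⊓ ⟨⋂ i, (W₀ i : Set X), isOpen_iInter_of_finite fun i => (W₀ i).2⟩
  have hW₁U : W₁ ≤ U := inf_le_left
  have hW₁ : ∀ i, W₁ ≤ W₀ i := fun i y hy => Set.mem_iInter.1 hy.2 i
  have hxW₁ : x ∈ W₁ := ⟨hx, Set.mem_iInter.2 hxW₀⟩
  -- the map on free generators
  let lin : ∀ (W : X.Opens), W ≤ W₁ → (Fin k → Γ(X, U)) →+ Γ(G, W) := fun W hW =>
    AddMonoidHom.mk' (fun c => ∑ i, resO X (hW.trans hW₁U) (c i) • res G (hW.trans (hW₁ i)) (n₀ i))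
      fun c d => by simp [add_smul, Finset.sum_add_distrib]
  have hlin_apply : ∀ (W : X.Opens) (hW : W ≤ W₁) (c : Fin k → Γ(X, U)), lin W hW c =
      ∑ i, resO X (hW.trans hW₁U) (c i) • res G (hW.trans (hW₁ i)) (n₀ i) := fun W hW c => rfl
  have hlin : ∀ (c : Fin k → Γ(X, U)), mgerm G hxW₁ (lin W₁ le_rfl c) = φ (mgerm F hx (π c)) := fun c => by
    have hc : π c = ∑ i, c i • π (Pi.single i 1) := by
      conv_lhs => rw [pi_eq_sum_univ' c, map_sum]
      exact Finset.sum_congr rfl fun i _ => by rw [map_smul]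
    simp only [hlin_apply]
    rw [hc, map_sum, map_sum, map_sum]
    refine Finset.sum_congr rfl fun i _ => ?_
    rw [mgerm_smul, mgerm_smul, map_smul, mgerm_res, hn₀]
    congr 1
    exact X.presheaf.germ_res_apply _ _ _ _
  obtain ⟨K, hK⟩ := Module.FinitePresentation.fg_ker π hπ
  have hlinres : ∀ (O : X.Opens) (h : O ≤ W₁) (O' : X.Opens) (h' : O' ≤ O) (c : Fin k → Γ(X, U)),
      lin O' (h'.trans h) c = res G h' (lin O h c) := fun O h O' h' c => by
    simp only [hlin_apply, map_sum]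
    exact Finset.sum_congr rfl fun i _ => by rw [res_smul, resO_resO, res_res]
  have hrel : ∀ c : K, ∃ (N : X.Opens) (h : N ≤ W₁), x ∈ N ∧ lin N h c.1 = 0 := fun c => by
    have h0 : mgerm G hxW₁ (lin W₁ le_rfl c.1) = mgerm G hxW₁ 0 := by
      rw [hlin, map_zero, show π c.1 = 0 from LinearMap.mem_ker.1 (hK ▸ Submodule.subset_span c.2),
        map_zero, map_zero]
    obtain ⟨N, hxN, i₁, i₂, he⟩ := TopCat.Presheaf.germ_eq G.presheaf x hxW₁ hxW₁ _ _ h0
    refine ⟨N, i₁.le, hxN, ?_⟩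
    rw [hlinres W₁ le_rfl N i₁.le]
    exact he.trans (map_zero _)
  choose N hNle hxN hN using hrel
  let W : X.Opens := W₁ ⊓ ⟨⋂ c : K, (N c : Set X), isOpen_iInter_of_finite fun c => (N c).2⟩
  have hWW₁ : W ≤ W₁ := inf_le_left
  have hWN : ∀ c, W ≤ N c := fun c y hy => Set.mem_iInter.1 hy.2 c
  have hWU : W ≤ U := hWW₁.trans hW₁U
  have hxW : x ∈ W := ⟨hxW₁, Set.mem_iInter.2 hxN⟩
  letI := Module.compHom Γ(G, W) (resO X hWU)
  let ψ₀ : (Fin k → Γ(X, U)) →ₗ[Γ(X, U)] Γ(G, W) :=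
    { toFun := lin W hWW₁
      map_add' := map_add _
      map_smul' := fun a c => by
        change lin W hWW₁ (a • c) = resO X hWU a • lin W hWW₁ c
        simp only [hlin_apply, Finset.smul_sum]
        refine Finset.sum_congr rfl fun i _ => ?_
        rw [smul_smul, ← map_mul]
        rfl }
  have hker : LinearMap.ker π ≤ LinearMap.ker ψ₀ := by
    rw [← hK, Submodule.span_le]
    intro c hc
    change lin W hWW₁ c = 0
    rw [hlinres (N ⟨c, hc⟩) (hNle _) W (hWN ⟨c, hc⟩), hN ⟨c, hc⟩, map_zero]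
  let ψ : Γ(F, U) →ₗ[Γ(X, U)] Γ(G, W) :=
    (LinearMap.ker π).liftQ ψ₀ hker ∘ₗ (π.quotKerEquivOfSurjective hπ).symm.toLinearMap
  have hψ : ∀ c, ψ (π c) = lin W hWW₁ c := fun c => by
    have e : (π.quotKerEquivOfSurjective hπ).symm (π c) = Submodule.Quotient.mk c :=
      (LinearEquiv.symm_apply_eq _).2 rfl
    change (LinearMap.ker π).liftQ ψ₀ hker ((π.quotKerEquivOfSurjective hπ).symm (π c)) = _
    rw [e]
    rfl
  obtain ⟨g, hg⟩ := exists_section_of_linear hU hF hWU ψ.toAddMonoidHom ψ.map_smul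
  refine ⟨(RefHull.homSh F G).presheaf.germ W x hxW g, ?_⟩
  rw [RefHull.evalStalk_germ]
  -- both linear maps agree on generators
  have hgen : Submodule.span (X.presheaf.stalk x) (Set.range fun i => mgerm F hx (π (Pi.single i 1))) = ⊤ := by
    refine LocFree.span_germ hU hF hx (fun i => π (Pi.single i 1)) (eq_top_iff.2 fun m _ => ?_)
    obtain ⟨c, rfl⟩ := hπ m
    rw [pi_eq_sum_univ' c, map_sum]
    exact Submodule.sum_mem _ fun i _ => by
      rw [map_smul]; exact Submodule.smul_mem _ _ (Submodule.subset_span ⟨i, rfl⟩)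
  refine LinearMap.ext_on_range hgen fun i => ?_
  change g.1 ⟨x, hxW⟩ (mgerm F (hWU hxW) (π (Pi.single i 1))) = _
  rw [hg, show ψ.toAddMonoidHom (π (Pi.single i 1)) = ψ (π (Pi.single i 1)) from rfl, hψ, hlinres W₁ le_rfl W hWW₁, mgerm_res, hlin]

/-- For a finitely presented module, germs of the sheaf Hom are the linear maps of stalks. -/
theorem evalStalk_bijective (hF : CohB1.IsFP F) (x : X) : Function.Bijective (RefHull.evalStalk F G x) := by
  have hq : Coh.IsQCoh F := Groth.Agent.QC.isQCoh_iff_exists_hasPres.2 fun y =>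
    let ⟨U, hy, P, _⟩ := Groth.Agent.QC.isFP_iff_exists_hasFinPres.1 hF y
    ⟨U, hy, ⟨P⟩⟩
  have hft : CohB1.IsFT F := Groth.Agent.QC.isFT_iff_exists_hasFinGen.2 fun y =>
    let ⟨U, hy, hP⟩ := Groth.Agent.QC.isFP_iff_exists_hasFinPres.1 hF y
    ⟨U, hy, hP.hasFinGen⟩
  obtain ⟨U, hU, hx, -⟩ := exists_isAffineOpen_mem_and_subset (x := x) (U := (⊤ : X.Opens)) trivial
  exact ⟨evalStalk_injective hft x,
    evalStalk_surjective_of_affine hU hq (LocFree.finitePresentation_sections_of_isFP hq hF hU) hx⟩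

end Groth.Agent.RefStalk
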