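import Groth.Agent.RefStalk.Eval
import Mathlib

/-!
The sheaf Hom of coherent modules on a locally Noetherian scheme is coherent.
-/

set_option autoImplicit false
set_option backward.isDefEq.respectTransparency false

universe u

open CategoryTheory CategoryTheory.Limits AlgebraicGeometry TopologicalSpace Opposite
open Groth.Agent.QC (res resO res_res res_smul resO_resO isLoc_of_isQCoh IsLoc)
open Groth.Agent.WeakAssLib (mgerm mgerm_smul mgerm_res ext_germ)

noncomputable section

namespace Groth.Agent.RefStalk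

variable {X : Scheme.{u}} {F G : X.Modules}

theorem germ_ext {U : X.Opens} {n n' : Γ(G, U)} (h : ∀ (y : X) (hy : y ∈ U), mgerm G hy n = mgerm G hy n') :
    n = n' :=
  sub_eq_zero.1 (ext_germ G (n - n') fun y hy => by rw [map_sub, sub_eq_zero]; exact h y hy)

/-- A section of the sheaf Hom applies to sections. -/
theorem exists_app {W V : X.Opens} (g : Γ(RefHull.homSh F G, W)) (hV : V ≤ W) (s : Γ(F, V)) :
    ∃ n : Γ(G, V), ∀ (y : X) (hy : y ∈ V), mgerm G hy n = g.1 ⟨y, hV hy⟩ (mgerm F hy s) := by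
  choose O hO j n hn using fun v : V => RefHull.isLocSect_of_mem g V (homOfLE hV) s v
  obtain ⟨m, hm, -⟩ := TopCat.Sheaf.existsUnique_gluing' (Groth.Agent.QC.abSheaf G) O V j
    (fun y hy => Opens.mem_iSup.2 ⟨⟨y, hy⟩, hO ⟨y, hy⟩⟩) n fun v w => by
      refine germ_ext (U := O v ⊓ O w) fun y hy => ?_
      exact ((mgerm_res G (inf_le_left : O v ⊓ O w ≤ O v) hy (n v)).trans (hn v ⟨y, hy.1⟩).symm).trans
        ((hn w ⟨y, hy.2⟩).trans (mgerm_res G (inf_le_right : O v ⊓ O w ≤ O w) hy (n w)).symm)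
  refine ⟨m, fun y hy => ?_⟩
  have e : mgerm G (hO ⟨y, hy⟩) (res G (j ⟨y, hy⟩).le m) = mgerm G (hO ⟨y, hy⟩) (n ⟨y, hy⟩) :=
    congrArg _ (hm ⟨y, hy⟩)
  rw [mgerm_res] at e
  exact e.trans (hn ⟨y, hy⟩ ⟨y, hO ⟨y, hy⟩⟩).symm

/-- Sections of the sheaf Hom agreeing on generating sections are equal. -/
theorem hom_ext_span {U W : X.Opens} (hU : IsAffineOpen U) (hF : Coh.IsQCoh F) (hW : W ≤ U) {ι : Type*}
    (b : ι → Γ(F, U)) (hb : Submodule.span Γ(X, U) (Set.range b) = ⊤) (g g' : Γ(RefHull.homSh F G, W))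
    (h : ∀ (y : X) (hy : y ∈ W) (i : ι),
      g.1 ⟨y, hy⟩ (mgerm F (hW hy) (b i)) = g'.1 ⟨y, hy⟩ (mgerm F (hW hy) (b i))) : g = g' :=
  Subtype.ext (funext fun y =>
    LinearMap.ext_on_range (LocFree.span_germ hU hF (hW y.2) b hb) fun i => h y.1 y.2 i)

variable [IsLocallyNoetherian X]

theorem isLoc_homSh (hF : Coh.IsCoh F) (hG : Coh.IsQCoh G) {U : X.Opens} (hU : IsAffineOpen U) :
    IsLoc (RefHull.homSh F G) U := by
  classical
  haveI : IsNoetherianRing Γ(X, U) := IsLocallyNoetherian.component_noetherian ⟨U, hU⟩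
  haveI := Groth.Agent.QC.finite_sections hU (hM := hF.1) hF.2
  haveI : Module.FinitePresentation Γ(X, U) Γ(F, U) := Module.finitePresentation_of_finite _ _
  obtain ⟨k, π, hπ⟩ := Module.Finite.exists_fin' Γ(X, U) Γ(F, U)
  let b : Fin k → Γ(F, U) := fun i => π (Pi.single i 1)
  have hsum : ∀ c : Fin k → Γ(X, U), π c = ∑ i, c i • b i := fun c => by
    conv_lhs => rw [pi_eq_sum_univ' c, map_sum]
    exact Finset.sum_congr rfl fun i _ => by rw [map_smul]
  have hb : Submodule.span Γ(X, U) (Set.range b) = ⊤ := eq_top_iff.2 fun m _ => by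
    obtain ⟨c, rfl⟩ := hπ m
    rw [hsum]
    exact Submodule.sum_mem _ fun i _ => Submodule.smul_mem _ _ (Submodule.subset_span ⟨i, rfl⟩)
  have hLG := isLoc_of_isQCoh hU (hM := hG)
  refine ⟨fun f t => ?_, fun f g hg => ?_⟩
  · have hD := X.basicOpen_le f
    choose n hn using fun i => exists_app t (V := X.basicOpen f) le_rfl (res F hD (b i))
    choose N s hs using fun i => hLG.exists_extend f (n i)
    let N₀ := Finset.univ.sup N
    let s' : Fin k → Γ(G, U) := fun i => f ^ (N₀ - N i) • s i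
    have hs' : ∀ i, res G hD (s' i) = resO X hD f ^ N₀ • n i := fun i => by
      rw [res_smul, hs, map_pow, smul_smul, ← pow_add, Nat.sub_add_cancel (Finset.le_sup (Finset.mem_univ i))]
    let ψ₀ := Fintype.linearCombination Γ(X, U) s'
    have hres : ∀ c, π c = 0 → res G hD (ψ₀ c) = 0 := fun c hc => ext_germ G _ fun y hy => by
      rw [Fintype.linearCombination_apply, map_sum, map_sum]
      have e : ∀ i, mgerm G hy (res G hD (c i • s' i)) = X.presheaf.germ _ y hy (resO X hD f ^ N₀) •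
          t.1 ⟨y, hy⟩ (mgerm F (hD hy) (c i • b i)) := fun i => by
        rw [res_smul, hs', mgerm_smul, mgerm_smul, hn, mgerm_res, mgerm_smul, map_smul,
          show X.presheaf.germ _ y hy (resO X hD (c i)) = X.presheaf.germ U y (hD hy) (c i) from
            X.presheaf.germ_res_apply _ _ _ _, smul_comm]
      rw [Finset.sum_congr rfl fun i _ => e i, ← Finset.smul_sum, ← map_sum, ← map_sum, ← hsum, hc,
        map_zero, map_zero, smul_zero]
    obtain ⟨K, hK⟩ := Module.FinitePresentation.fg_ker π hπ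
    have hKm : ∀ c : K, π c.1 = 0 := fun c => LinearMap.mem_ker.1 (hK ▸ Submodule.subset_span c.2)
    choose M hM using fun c : K => hLG.exists_pow_smul_eq_zero f _ (hres c.1 (hKm c))
    let M₀ := Finset.univ.sup M
    let ψ₁ := (f ^ M₀) • ψ₀
    have hker : LinearMap.ker π ≤ LinearMap.ker ψ₁ := by
      rw [← hK, Submodule.span_le]
      intro c hc
      change f ^ M₀ • ψ₀ c = 0
      rw [← Nat.sub_add_cancel (show M ⟨c, hc⟩ ≤ M₀ from Finset.le_sup (f := M) (Finset.mem_univ _)), pow_add, mul_smul,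
        hM ⟨c, hc⟩, smul_zero]
    let ψ : Γ(F, U) →ₗ[Γ(X, U)] Γ(G, U) :=
      (LinearMap.ker π).liftQ ψ₁ hker ∘ₗ (π.quotKerEquivOfSurjective hπ).symm.toLinearMap
    have hψb : ∀ i, ψ (b i) = f ^ M₀ • s' i := fun i => by
      have e : (π.quotKerEquivOfSurjective hπ).symm (b i) = Submodule.Quotient.mk (Pi.single i 1) :=
        (LinearEquiv.symm_apply_eq _).2 rfl
      change (LinearMap.ker π).liftQ ψ₁ hker ((π.quotKerEquivOfSurjective hπ).symm (b i)) = _
      rw [e, Submodule.liftQ_apply]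
      change f ^ M₀ • ψ₀ (Pi.single i 1) = _
      rw [Fintype.linearCombination_apply_single, one_smul]
    obtain ⟨g, hg⟩ := exists_section_of_linear hU hF.1 le_rfl ψ.toAddMonoidHom fun a s => by
      rw [Groth.Agent.QC.resO_self]; exact ψ.map_smul a s
    refine ⟨M₀ + N₀, g, hom_ext_span hU hF.1 hD b hb _ _ fun y hy i => ?_⟩
    change g.1 ⟨y, hD hy⟩ (mgerm F (hD hy) (b i)) =
      X.presheaf.germ (X.basicOpen f) y hy (resO X hD f ^ (M₀ + N₀)) • t.1 ⟨y, hy⟩ (mgerm F (hD hy) (b i))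
    rw [hg, show ψ.toAddMonoidHom (b i) = ψ (b i) from rfl, hψb, ← mgerm_res G hD hy, res_smul, hs',
      smul_smul, map_pow, ← pow_add, mgerm_smul, hn, mgerm_res]
  · choose n hn using fun i => exists_app g (V := U) le_rfl (b i)
    have h0 : ∀ i, res G (X.basicOpen_le f) (n i) = 0 := fun i => ext_germ G _ fun y hy => by
      rw [mgerm_res, hn]
      have e : g.1 ⟨y, X.basicOpen_le f hy⟩ = 0 := congrFun (congrArg Subtype.val hg) ⟨y, hy⟩
      rw [e]
      rfl
    choose N hN using fun i => hLG.exists_pow_smul_eq_zero f (n i) (h0 i)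
    let N₀ := Finset.univ.sup N
    refine ⟨N₀, hom_ext_span hU hF.1 le_rfl b hb _ _ fun y hy i => ?_⟩
    change X.presheaf.germ U y hy (f ^ N₀) • g.1 ⟨y, hy⟩ (mgerm F hy (b i)) = 0
    rw [← hn, ← mgerm_smul, ← Nat.sub_add_cancel (show N i ≤ N₀ from Finset.le_sup (f := N) (Finset.mem_univ i)), pow_add,
      mul_smul, hN, smul_zero, map_zero]

/-- The sheaf Hom of coherent modules is coherent. -/
theorem isCoh_homSh (hF : Coh.IsCoh F) (hG : Coh.IsCoh G) : Coh.IsCoh (RefHull.homSh F G) := by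
  have hq : Coh.IsQCoh (RefHull.homSh F G) :=
    Groth.Agent.QC.isQCoh_iff_isLoc.2 fun U => isLoc_homSh hF hG.1 U.2
  refine ⟨hq, (Groth.Agent.QC.isFT_iff_finite_sections (hM := hq)).2 fun ⟨U, hU⟩ => ?_⟩
  classical
  haveI : IsNoetherianRing Γ(X, U) := IsLocallyNoetherian.component_noetherian ⟨U, hU⟩
  haveI := Groth.Agent.QC.finite_sections hU (hM := hF.1) hF.2
  haveI := Groth.Agent.QC.finite_sections hU (hM := hG.1) hG.2
  obtain ⟨k, b, hb⟩ := Module.Finite.exists_fin (R := Γ(X, U)) (M := Γ(F, U))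
  choose n hn using fun (g : Γ(RefHull.homSh F G, U)) (i : Fin k) => exists_app g (V := U) le_rfl (b i)
  let e : Γ(RefHull.homSh F G, U) →ₗ[Γ(X, U)] (Fin k → Γ(G, U)) :=
    { toFun := n
      map_add' := fun g g' => funext fun i => germ_ext fun y hy => by
        rw [Pi.add_apply, map_add, hn, hn, hn]
        rfl
      map_smul' := fun a g => funext fun i => germ_ext fun y hy => by
        rw [RingHom.id_apply, Pi.smul_apply, mgerm_smul, hn, hn]
        rfl }
  exact Module.Finite.of_injective e fun g g' h => hom_ext_span hU hF.1 le_rfl b hb g g' fun y hy i =>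
    (hn g i y hy).symm.trans ((congrArg (mgerm G hy) (congrFun h i)).trans (hn g' i y hy))

end Groth.Agent.RefStalk
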