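import Groth.Agent.RefStalk.Extend
import Groth.Agent.QC.Extend
import Groth.Agent.CohFinite.RPushCoh
import Mathlib

/-!
Reflexivity and restriction to opens; reflexive push-forward across depth two.
-/

set_option autoImplicit false
set_option backward.isDefEq.respectTransparency false

universe u

open CategoryTheory CategoryTheory.Limits AlgebraicGeometry TopologicalSpace Opposite

noncomputable section

namespace Groth.Agent.RefStalk

/-- Reflexivity along a semilinear bijection. -/
theorem isReflexive_of_semilinear {R R' M M' : Type u} [CommRing R] [CommRing R'] [AddCommGroup M] [Module R M]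
    [AddCommGroup M'] [Module R' M'] (σ : R ≃+* R') (e : M ≃+ M') (he : ∀ (r : R) (m : M), e (r • m) = σ r • e m)
    [Module.IsReflexive R M] : Module.IsReflexive R' M' := by
  have he' : ∀ (r : R') (m : M'), e.symm (r • m) = σ.symm r • e.symm m := fun r m => e.injective (by
    rw [he, σ.apply_symm_apply, e.apply_symm_apply, e.apply_symm_apply])
  let T : Module.Dual R M → Module.Dual R' M' := fun φ =>
    { toFun := fun m => σ (φ (e.symm m))
      map_add' := fun a b => by rw [map_add, map_add, map_add]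
      map_smul' := fun r a => by
        rw [he', map_smul, smul_eq_mul, map_mul, σ.apply_symm_apply, RingHom.id_apply, smul_eq_mul] }
  let T' : Module.Dual R' M' → Module.Dual R M := fun φ =>
    { toFun := fun m => σ.symm (φ (e m))
      map_add' := fun a b => by rw [map_add, map_add, map_add]
      map_smul' := fun r a => by
        rw [he, map_smul, smul_eq_mul, map_mul, σ.symm_apply_apply, RingHom.id_apply, smul_eq_mul] }
  have hTT' : ∀ φ, T (T' φ) = φ := fun φ => LinearMap.ext fun m => by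
    change σ (σ.symm (φ (e (e.symm m)))) = φ m
    rw [σ.apply_symm_apply, e.apply_symm_apply]
  refine ⟨fun a b hab => ?_, fun ξ => ?_⟩
  · refine e.symm.injective ((Module.bijective_dual_eval R M).1 (LinearMap.ext fun φ => σ.injective ?_))
    exact LinearMap.congr_fun hab (T φ)
  · let η : Module.Dual R (Module.Dual R M) :=
      { toFun := fun φ => σ.symm (ξ (T φ))
        map_add' := fun a b => by
          rw [show T (a + b) = T a + T b from LinearMap.ext fun m => map_add σ _ _, map_add, map_add]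
        map_smul' := fun r a => by
          rw [show T (r • a) = σ r • T a from LinearMap.ext fun m => map_mul σ _ _, map_smul, smul_eq_mul,
            map_mul, σ.symm_apply_apply, RingHom.id_apply, smul_eq_mul] }
    obtain ⟨m, hm⟩ := (Module.bijective_dual_eval R M).2 η
    refine ⟨e m, LinearMap.ext fun φ => σ.symm.injective ?_⟩
    have h := LinearMap.congr_fun hm (T' φ)
    change σ.symm (φ (e m)) = σ.symm (ξ (T (T' φ))) at h
    rw [hTT'] at h
    exact h

variable {X : Scheme.{u}}

/-- The stalk comparison of a restriction is semilinear. -/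
theorem exists_stalk_restrict (F : X.Modules) (U : X.Opens) (x : U) :
    ∃ (σ : (U : Scheme.{u}).presheaf.stalk x ≃+* X.presheaf.stalk x.1)
      (e : (F.restrict U.ι).presheaf.stalk x ≃+ F.presheaf.stalk x.1),
      ∀ (r : (U : Scheme.{u}).presheaf.stalk x) (m : (F.restrict U.ι).presheaf.stalk x),
        e (r • m) = σ r • e m := by
  let I : (F.restrict U.ι).presheaf.stalk x ≅ F.presheaf.stalk x.1 :=
    (Scheme.Modules.restrictStalkNatIso U.ι x).app F
  have hI : ∀ (V : (U : Scheme.{u}).Opens) (hx : x ∈ V) (s : Γ(F.restrict U.ι, V)),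
      I.addCommGroupIsoToAddEquiv ((F.restrict U.ι).presheaf.germ V x hx s) =
        F.presheaf.germ (U.ι ''ᵁ V) x.1 ⟨x, hx, rfl⟩ s := fun V hx s =>
    congrArg (fun q => q.hom s) (Scheme.Modules.germ_restrictStalkNatIso_hom_app U.ι x F hx)
  have hσ : ∀ (V : (U : Scheme.{u}).Opens) (hx : x ∈ V) (s : Γ((U : Scheme.{u}), V)),
      (U.stalkIso x).commRingCatIsoToRingEquiv ((U : Scheme.{u}).presheaf.germ V x hx s) =
        X.presheaf.germ (U.ι ''ᵁ V) x.1 ⟨x, hx, rfl⟩ s := fun V hx s =>
    congrArg (fun q => q.hom s) (U.germ_stalkIso_hom x hx)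
  refine ⟨(U.stalkIso x).commRingCatIsoToRingEquiv, I.addCommGroupIsoToAddEquiv, fun r m => ?_⟩
  obtain ⟨V, hV, a, rfl⟩ := TopCat.Presheaf.exists_germ_eq (U : Scheme.{u}).presheaf r
  obtain ⟨W, hW, s, rfl⟩ := TopCat.Presheaf.exists_germ_eq (F.restrict U.ι).presheaf m
  rw [← TopCat.Presheaf.germ_res_apply _ (homOfLE (inf_le_left : V ⊓ W ≤ V)) x ⟨hV, hW⟩ a,
    ← TopCat.Presheaf.germ_res_apply _ (homOfLE (inf_le_right : V ⊓ W ≤ W)) x ⟨hV, hW⟩ s,
    ← Mero.germ_smul, hσ, hI, hI]
  have hx' : x.1 ∈ U.ι ''ᵁ (V ⊓ W) := ⟨x, ⟨hV, hW⟩, rfl⟩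
  have h := Mero.germ_smul F (U.ι ''ᵁ (V ⊓ W)) x.1 hx'
    ((U.ι.appIso (V ⊓ W)).inv ((U : Scheme.{u}).presheaf.map (homOfLE (inf_le_left : V ⊓ W ≤ V)).op a))
    ((F.restrict U.ι).presheaf.map (homOfLE (inf_le_right : V ⊓ W ≤ W)).op s : Γ(F, U.ι ''ᵁ (V ⊓ W)))
  have hid : (U.ι.appIso (V ⊓ W)).inv ((U : Scheme.{u}).presheaf.map (homOfLE (inf_le_left : V ⊓ W ≤ V)).op a) =
      (U : Scheme.{u}).presheaf.map (homOfLE (inf_le_left : V ⊓ W ≤ V)).op a := by
    rw [Scheme.Opens.ι_appIso]; rfl
  refine Eq.trans ?_ (h.trans (congrArg (fun c => X.presheaf.germ (U.ι ''ᵁ (V ⊓ W)) x.1 hx' c • _) hid))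
  rfl

/-- Reflexivity of stalks is unchanged by restriction. -/
theorem isReflexiveAt_restrict_iff (F : X.Modules) (U : X.Opens) (x : U) :
    Module.IsReflexive ((U : Scheme.{u}).presheaf.stalk x) ((F.restrict U.ι).presheaf.stalk x) ↔
      Module.IsReflexive (X.presheaf.stalk x.1) (F.presheaf.stalk x.1) := by
  obtain ⟨σ, e, he⟩ := exists_stalk_restrict F U x
  refine ⟨fun h => isReflexive_of_semilinear σ e he, fun h => isReflexive_of_semilinear σ.symm e.symm ?_⟩
  intro r m
  exact e.injective (by rw [he, σ.apply_symm_apply, e.apply_symm_apply, e.apply_symm_apply])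

/-- Stalkwise reflexivity along an isomorphism. -/
theorem isReflexiveAt_of_iso {F G : X.Modules} (e : F ≅ G) (x : X)
    (h : Module.IsReflexive (X.presheaf.stalk x) (F.presheaf.stalk x)) :
    Module.IsReflexive (X.presheaf.stalk x) (G.presheaf.stalk x) := by
  refine Module.IsReflexive.of_split (RefHull.stalkMapₗ e.inv x) (RefHull.stalkMapₗ e.hom x)
    (LinearMap.ext fun m => ?_)
  obtain ⟨U, hU, s, rfl⟩ := TopCat.Presheaf.exists_germ_eq G.presheaf m
  rw [LinearMap.comp_apply, RefHull.stalkMapₗ_germ, RefHull.stalkMapₗ_germ, LinearMap.id_apply]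
  exact congrArg (G.presheaf.germ U x hU) (congrArg (fun φ : G ⟶ G => φ.app U s) e.inv_hom_id)

/-- The unit for restriction is an isomorphism when sections extend uniquely. -/
theorem isIso_unit_of_depth [IsLocallyNoetherian X] {F : X.Modules} (hF : Coh.IsCoh F) (U : X.Opens)
    (h : ∀ x ∉ U, (2 : ℕ∞) ≤ LocCoh.depth (X.presheaf.stalk x) (F.presheaf.stalk x)) :
    IsIso ((Scheme.Modules.restrictAdjunction U.ι).unit.app F) :=
  ZCl.isIso_of_bijective _ fun O => by
    rw [Scheme.Modules.restrictAdjunction_unit_app_app]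
    exact bijective_rs_of_depth hF (U.ι.image_preimage_le O) fun x hx hx' => h x fun hU =>
      hx' (ZCl.image_le U O ⟨hU, hx⟩)

/-- Reflexive modules on an open with depth two outside extend by push-forward. -/
theorem pushforward_isReflexive [IsIntegral X] [IsLocallyNoetherian X] (U : X.Opens)
    (hU : ∀ x : X, x ∉ U → (2 : ℕ∞) ≤ LocCoh.depth (X.presheaf.stalk x) (X.presheaf.stalk x))
    {G : (U : Scheme.{u}).Modules} (hG : Coh.IsCoh G)
    (hr : ∀ x : (U : Scheme.{u}), Module.IsReflexive ((U : Scheme.{u}).presheaf.stalk x) (G.presheaf.stalk x)) :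
    Coh.IsCoh ((Scheme.Modules.pushforward U.ι).obj G) ∧
      ∀ x : X, Module.IsReflexive (X.presheaf.stalk x)
        (((Scheme.Modules.pushforward U.ι).obj G).presheaf.stalk x) := by
  haveI : IsLocallyNoetherian (U : Scheme.{u}) := inferInstance
  haveI hq : Coh.IsQCoh ((Scheme.Modules.pushforward U.ι).obj G) := QC.isQCoh_pushforward (hM := hG.1) U.ι
  let adj := Scheme.Modules.restrictAdjunction U.ι
  let i : G ⟶ ((Scheme.Modules.pushforward U.ι).obj G).restrict U.ι := inv (adj.counit.app G)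
  obtain ⟨E, i', e, -, hEq, hEft, -⟩ := QC.exists_ft_extension (hG := hG.1) (fun x => by
    obtain ⟨A, hA, hxA, -⟩ := exists_isAffineOpen_mem_and_subset (x := x) (U := (⊤ : X.Opens)) trivial
    haveI : IsNoetherianRing Γ(X, A) := IsLocallyNoetherian.component_noetherian ⟨A, hA⟩
    exact ⟨A, hxA, noetherianSpace_of_isAffineOpen A hA⟩) U G i hG.2
  have hE : Coh.IsCoh E := ⟨hEq, hEft⟩
  let H := RefHull.ddual E
  have hH : Coh.IsCoh H := isCoh_homSh (isCoh_homSh hE isCoh_structureModule) isCoh_structureModule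
  have hEr : ∀ x ∈ U, RefHull.IsReflexiveAt E x := fun x hx =>
    (isReflexiveAt_restrict_iff E U ⟨x, hx⟩).1 (isReflexiveAt_of_iso e.symm ⟨x, hx⟩ (hr ⟨x, hx⟩))
  haveI : IsIso ((Scheme.Modules.restrictFunctor U.ι).map (RefHull.bidualMap E)) :=
    ZCl.isIso_of_bijective _ fun O => by
      exact bijective_app_of_stalk (RefHull.bidualMap E) (V := U.ι ''ᵁ O) fun x hx =>
        bijective_stalkMap_bidualMap hE x (hEr x (by obtain ⟨y, -, rfl⟩ := hx; exact y.2))
  haveI := isIso_unit_of_depth hH U fun x hx =>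
    two_le_depth_of_isReflexiveAt hH x (isReflexiveAt_ddual hE x) (hU x hx)
  let J : H ≅ (Scheme.Modules.pushforward U.ι).obj G :=
    asIso ((Scheme.Modules.restrictAdjunction U.ι).unit.app H) ≪≫
      (Scheme.Modules.pushforward U.ι).mapIso
        ((asIso ((Scheme.Modules.restrictFunctor U.ι).map (RefHull.bidualMap E))).symm ≪≫ e)
  exact ⟨CohFinite.isCoh_of_iso J hH, fun x => isReflexiveAt_of_iso J x (isReflexiveAt_ddual hE x)⟩

end Groth.Agent.RefStalk
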