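import Mathlib

/-!
Duals of finite modules over domains are reflexive.
-/

set_option autoImplicit false

universe u

namespace Groth.Agent.RefStalk

variable {R : Type u} [CommRing R] [IsDomain R] {M : Type u} [AddCommGroup M] [Module R M] [Module.Finite R M]

/-- Functionals on the dual of a finite module are, up to a nonzero scalar, evaluations. -/
theorem exists_smul_eq_eval (μ : Module.Dual R (Module.Dual R M)) :
    ∃ s : R, s ≠ 0 ∧ ∃ m : M, ∀ φ : Module.Dual R M, φ m = s * μ φ := by
  classical
  obtain ⟨n, b, hb⟩ := Module.Finite.exists_fin (R := R) (M := M)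
  let K := FractionRing R
  let Φ : Module.Dual R M →ₗ[R] (Fin n → K) :=
    LinearMap.pi fun i => Algebra.linearMap R K ∘ₗ LinearMap.applyₗ (R := R) (M₂ := R) (b i)
  have hinjK := IsFractionRing.injective R K
  have hΦ : Function.Injective Φ := fun φ φ' h => LinearMap.ext_on_range hb fun i => hinjK (congrFun h i)
  obtain ⟨B, hB, hBspan, hBli⟩ := exists_linearIndependent K (Set.range Φ)
  haveI : Fintype B := hBli.setFinite.fintype
  choose φ₀ hφ₀ using fun v : B => hB v.2
  let bas := Module.Basis.span hBli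
  obtain ⟨ℓ, hℓ⟩ := LinearMap.exists_extend (bas.constr K fun v => algebraMap R K (μ (φ₀ v)))
  have hℓB : ∀ v : B, ℓ (Φ (φ₀ v)) = algebraMap R K (μ (φ₀ v)) := fun v => by
    have h := LinearMap.congr_fun hℓ (bas v)
    rw [Module.Basis.constr_basis, LinearMap.comp_apply] at h
    rw [← h, hφ₀ v]
    exact congrArg ℓ (congrArg Subtype.val (Module.Basis.span_apply hBli v)).symm
  have hℓΦ : ∀ φ, ℓ (Φ φ) = algebraMap R K (μ φ) := fun φ => by
    have hmem : Φ φ ∈ Submodule.span K (Set.range ((↑) : B → Fin n → K)) := by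
      rw [Subtype.range_coe, hBspan]
      exact Submodule.subset_span ⟨φ, rfl⟩
    obtain ⟨c, hc⟩ := (Submodule.mem_span_range_iff_exists_fun K).1 hmem
    obtain ⟨⟨t, ht⟩, hta⟩ := IsLocalization.exist_integer_multiples_of_finite (nonZeroDivisors R) c
    choose a ha using hta
    have hrel : t • φ = ∑ v, a v • φ₀ v := hΦ (by
      rw [map_smul, map_sum, ← hc, Finset.smul_sum]
      refine Finset.sum_congr rfl fun v _ => ?_
      rw [map_smul, hφ₀, ← smul_assoc, ← IsScalarTower.algebraMap_smul K (a v) (v : Fin n → K)]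
      exact congrArg (· • (v : Fin n → K)) (ha v).symm)
    have h2 := congrArg (fun ψ => algebraMap R K (μ ψ)) hrel
    have h3 : algebraMap R K t * ℓ (Φ φ) = algebraMap R K t * algebraMap R K (μ φ) := by
      rw [← map_mul, ← smul_eq_mul t (μ φ), ← map_smul, show algebraMap R K (μ (t • φ)) = _ from h2]
      rw [map_sum, map_sum, ← smul_eq_mul, ← map_smul, ← hc, Finset.smul_sum, map_sum]
      refine Finset.sum_congr rfl fun v _ => ?_
      rw [map_smul, map_smul, smul_eq_mul, smul_eq_mul, ← hφ₀ v, ← mul_assoc, map_smul, smul_eq_mul, map_mul,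
        ← hℓB v, show algebraMap R K (a v) = algebraMap R K t * c v from (ha v).trans (Algebra.smul_def _ _)]
    exact mul_left_cancel₀ (fun h => nonZeroDivisors.ne_zero ht (hinjK (h.trans (map_zero _).symm))) h3
  obtain ⟨⟨s, hs⟩, hsr⟩ := IsLocalization.exist_integer_multiples_of_finite (nonZeroDivisors R)
    fun i => ℓ (Pi.single i 1)
  choose r hr using hsr
  refine ⟨s, nonZeroDivisors.ne_zero hs, ∑ i, r i • b i, fun φ => hinjK ?_⟩
  have hsingle : ∀ v : Fin n → K, ℓ v = ∑ i, v i * ℓ (Pi.single i 1) := fun v => by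
    conv_lhs => rw [pi_eq_sum_univ' v, map_sum]
    exact Finset.sum_congr rfl fun i _ => by rw [map_smul, smul_eq_mul]
  rw [map_mul, ← hℓΦ φ, hsingle, Finset.mul_sum, map_sum, map_sum]
  refine Finset.sum_congr rfl fun i _ => ?_
  rw [map_smul, smul_eq_mul, map_mul, show algebraMap R K (r i) = algebraMap R K s * ℓ (Pi.single i 1) from
    (hr i).trans (Algebra.smul_def _ _)]
  change _ = algebraMap R K s * (algebraMap R K (φ (b i)) * _)
  ring

/-- The dual of a finite module over a domain is reflexive. -/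
theorem isReflexive_dual : Module.IsReflexive R (Module.Dual R M) := by
  refine ⟨fun φ φ' h => LinearMap.ext fun m => LinearMap.congr_fun h (Module.Dual.eval R M m), fun ξ => ?_⟩
  refine ⟨ξ ∘ₗ Module.Dual.eval R M, LinearMap.ext fun μ => ?_⟩
  obtain ⟨s, hs, m, hm⟩ := exists_smul_eq_eval μ
  have he : Module.Dual.eval R M m = s • μ := LinearMap.ext fun φ => by
    rw [Module.Dual.eval_apply, hm]; rfl
  refine mul_left_cancel₀ hs ?_
  rw [← smul_eq_mul s (ξ μ), ← map_smul, ← he]
  exact (hm _).symm

end Groth.Agent.RefStalk
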