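import Groth.Agent.RefStalk.Refl
import Groth.Agent.RefStalk.Dual
import Groth.Agent.ZCl.Closed
import Groth.Agent.RegDual.Scheme
import Groth.Agent.QGorD.Skn
import Mathlib

/-!
Extension of sections across closed subsets of depth two, and the locus of free stalks.
-/

set_option autoImplicit false
set_option backward.isDefEq.respectTransparency false

universe u

open CategoryTheory CategoryTheory.Limits AlgebraicGeometry TopologicalSpace Opposite
open Groth.Agent.WeakAssLib (mgerm mgerm_smul mgerm_res)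

noncomputable section

namespace Groth.Agent.RefStalk

variable {X : Scheme.{u}}

/-- Sections extend uniquely across points where the depth is at least two. -/
theorem bijective_rs_of_depth [IsLocallyNoetherian X] {F : X.Modules} (hF : Coh.IsCoh F) {U V : X.Opens}
    (hVU : V ≤ U)
    (h : ∀ x ∈ U, x ∉ V → (2 : ℕ∞) ≤ LocCoh.depth (X.presheaf.stalk x) (F.presheaf.stalk x)) :
    Function.Bijective (ZCl.rs F hVU) := by
  let T : ZClos.Cl (Set.univ : Set X) := ⟨⟨(V : Set X)ᶜ, V.isOpen.isClosed_compl⟩, fun _ _ => trivial⟩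
  have hT : T.U = V := Opens.ext (compl_compl (V : Set X))
  have hb := ZCl.bij_of_affine (F := F) T U (fun A hA hAU => (ZCl.bijective_rs_iff_depth F hF hA T.U).2
    fun y hy hyT => h y (hAU hy) (by rw [← hT]; exact hyT)) (le_refl U)
  have h1 : V ≤ T.U ⊓ U := le_inf hT.ge hVU
  have h2 : T.U ⊓ U ≤ V := inf_le_left.trans hT.le
  have e : (ZCl.rs F hVU : _ → _) = ZCl.rs F h1 ∘ ZCl.rs F (inf_le_right : T.U ⊓ U ≤ U) :=
    funext fun s => (ZCl.rs_rs F _ _ _).symm
  rw [e]
  exact (ZCl.rs_bijective F h1 h2).comp hb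

/-- Bijective on stalks over an open means bijective on sections there. -/
theorem bijective_app_of_stalk {F G : X.Modules} (φ : F ⟶ G) {V : X.Opens}
    (h : ∀ x ∈ V, Function.Bijective (RefHull.stalkMapₗ φ x)) : Function.Bijective (φ.app V) := by
  have hinj : ∀ W : X.Opens, W ≤ V → Function.Injective (φ.app W) := fun W hW s t hst =>
    ZCl.ext_germ F s t fun x hx => (h x (hW hx)).1 (by
      rw [RefHull.stalkMapₗ_germ, RefHull.stalkMapₗ_germ, hst])
  refine ⟨hinj V le_rfl, fun t => ?_⟩
  have hloc : ∀ x : {x : X // x ∈ V}, ∃ W : X.Opens, x.1 ∈ W ∧ ∃ hW : W ≤ V,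
      ∃ s : Γ(F, W), φ.app W s = ZCl.rs G hW t := by
    rintro ⟨x, hx⟩
    obtain ⟨σ, hσ⟩ := (h x hx).2 (G.presheaf.germ V x hx t)
    obtain ⟨W, hxW, s, rfl⟩ := TopCat.Presheaf.exists_germ_eq F.presheaf (x := x) σ
    rw [RefHull.stalkMapₗ_germ] at hσ
    obtain ⟨W', hxW', i₁, i₂, he⟩ := TopCat.Presheaf.germ_eq G.presheaf x hxW hx _ t hσ
    exact ⟨W', hxW', leOfHom i₂, ZCl.rs F (leOfHom i₁) s, (ZCl.app_rs φ (leOfHom i₁) s).trans he⟩
  choose W hxW hW s hs using hloc
  obtain ⟨S, hS⟩ := ZCl.glue F W hW (fun x hx => ⟨⟨x, hx⟩, hxW _⟩) s fun i j =>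
    hinj _ (inf_le_left.trans (hW i)) (by
      rw [ZCl.app_rs, ZCl.app_rs, hs, hs, ZCl.rs_rs, ZCl.rs_rs])
  refine ⟨S, ZCl.ext_cover G W hW (fun x hx => ⟨⟨x, hx⟩, hxW _⟩) _ _ fun i => ?_⟩
  rw [← ZCl.app_rs, hS, hs]

/-- An isomorphism off a closed set of depth two for both modules is an isomorphism. -/
theorem isIso_of_depth [IsLocallyNoetherian X] {F G : X.Modules} (φ : F ⟶ G) (hF : Coh.IsCoh F)
    (hG : Coh.IsCoh G) (U : X.Opens) (hU : ∀ x ∈ U, Function.Bijective (RefHull.stalkMapₗ φ x))
    (hdF : ∀ x ∉ U, (2 : ℕ∞) ≤ LocCoh.depth (X.presheaf.stalk x) (F.presheaf.stalk x))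
    (hdG : ∀ x ∉ U, (2 : ℕ∞) ≤ LocCoh.depth (X.presheaf.stalk x) (G.presheaf.stalk x)) : IsIso φ :=
  ZCl.isIso_of_bijective φ fun O => by
    have hF' := bijective_rs_of_depth hF (inf_le_right : U ⊓ O ≤ O)
      fun x hx hx' => hdF x fun h => hx' ⟨h, hx⟩
    have hG' := bijective_rs_of_depth hG (inf_le_right : U ⊓ O ≤ O)
      fun x hx hx' => hdG x fun h => hx' ⟨h, hx⟩
    refine (Function.Bijective.of_comp_iff' hG' _).1 ?_
    rw [show (ZCl.rs G (inf_le_right : U ⊓ O ≤ O)) ∘ (φ.app O) =
      (φ.app (U ⊓ O)) ∘ (ZCl.rs F (inf_le_right : U ⊓ O ≤ O)) from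
        funext fun s => (ZCl.app_rs φ _ s).symm]
    exact (bijective_app_of_stalk φ (V := U ⊓ O) fun x hx => hU x hx.1).comp hF'

/-- A reflexive stalk has depth two where the local ring has. -/
theorem two_le_depth_of_isReflexiveAt [IsLocallyNoetherian X] {F : X.Modules} (hF : Coh.IsCoh F) (x : X)
    (hr : Module.IsReflexive (X.presheaf.stalk x) (F.presheaf.stalk x))
    (hd : (2 : ℕ∞) ≤ LocCoh.depth (X.presheaf.stalk x) (X.presheaf.stalk x)) :
    (2 : ℕ∞) ≤ LocCoh.depth (X.presheaf.stalk x) (F.presheaf.stalk x) := by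
  haveI := RegDual.finite_stalk hF x
  exact_mod_cast QGorD.le_idealDepth_of_isReflexive (I := IsLocalRing.maximalIdeal (X.presheaf.stalk x))
    (F.presheaf.stalk x) 2 le_rfl (by exact_mod_cast hd)

/-- Stalks of the double dual of a coherent module are reflexive. -/
theorem isReflexiveAt_ddual [IsIntegral X] [IsLocallyNoetherian X] {F : X.Modules} (hF : Coh.IsCoh F) (x : X) :
    Module.IsReflexive (X.presheaf.stalk x) ((RefHull.ddual F).presheaf.stalk x) := by
  have hd := isCoh_homSh hF (isCoh_structureModule (X := X))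
  haveI := RegDual.finite_stalk hd x
  obtain ⟨e, -⟩ := exists_structStalk x
  let ev := LinearEquiv.ofBijective _ (bijective_evalStalk_of_isCoh (G := Coh.structureModule X) hd x)
  let E : (RefHull.ddual F).presheaf.stalk x ≃ₗ[X.presheaf.stalk x]
      Module.Dual (X.presheaf.stalk x) ((RefHull.dual F).presheaf.stalk x) :=
    ev ≪≫ₗ LinearEquiv.arrowCongr (LinearEquiv.refl _ _) e.symm
  haveI := isReflexive_dual (R := X.presheaf.stalk x) (M := (RefHull.dual F).presheaf.stalk x)
  exact Module.IsReflexive.of_split E.toLinearMap E.symm.toLinearMap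
    (LinearMap.ext fun m => E.symm_apply_apply m)

/-- A reflexive stalk gives a bijective biduality map there. -/
theorem bijective_stalkMap_bidualMap [IsLocallyNoetherian X] {F : X.Modules} (hF : Coh.IsCoh F) (x : X)
    (h : RefHull.IsReflexiveAt F x) : Function.Bijective (RefHull.stalkMapₗ (RefHull.bidualMap F) x) := by
  have hb := bijective_evalStalk_of_isCoh (G := Coh.structureModule X)
    (isCoh_homSh hF (isCoh_structureModule (X := X))) x
  rw [← hb.of_comp_iff', show (RefHull.evalStalk (RefHull.dual F) (Coh.structureModule X) x) ∘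
      (RefHull.stalkMapₗ (RefHull.bidualMap F) x) = RefHull.bidualAt F x from
        funext (evalStalk_stalkMap_bidualMap F x), bijective_bidualAt_iff hF]
  exact h

/-- Coherent modules are reflexive when reflexive off a closed set where ring and module have depth two. -/
theorem isReflexive_of_depth [IsIntegral X] [IsLocallyNoetherian X] {F : X.Modules} (hF : Coh.IsCoh F)
    (U : X.Opens) (hU : ∀ x ∈ U, RefHull.IsReflexiveAt F x)
    (hdF : ∀ x ∉ U, (2 : ℕ∞) ≤ LocCoh.depth (X.presheaf.stalk x) (F.presheaf.stalk x))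
    (hdO : ∀ x ∉ U, (2 : ℕ∞) ≤ LocCoh.depth (X.presheaf.stalk x) (X.presheaf.stalk x)) :
    RefHull.IsReflexive F := by
  have hdd := isCoh_homSh (isCoh_homSh hF (isCoh_structureModule (X := X))) (isCoh_structureModule (X := X))
  exact isIso_of_depth (RefHull.bidualMap F) hF hdd U
    (fun x hx => bijective_stalkMap_bidualMap hF x (hU x hx)) hdF
    fun x hx => two_le_depth_of_isReflexiveAt hdd x (isReflexiveAt_ddual hF x) (hdO x hx)

/-- Free sections on an affine open give free stalks. -/
theorem free_stalk_of_free_sections {F : X.Modules} (hF : Coh.IsQCoh F) {A : X.Opens} (hA : IsAffineOpen A)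
    [Module.Free Γ(X, A) Γ(F, A)] {x : X} (hx : x ∈ A) :
    Module.Free (X.presheaf.stalk x) (F.presheaf.stalk x) := by
  letI := Module.compHom (F.presheaf.stalk x) (X.presheaf.germ A x hx).hom
  letI := (X.presheaf.germ A x hx).hom.toAlgebra
  haveI := hA.isLocalization_stalk ⟨x, hx⟩
  haveI : IsScalarTower Γ(X, A) (X.presheaf.stalk x) (F.presheaf.stalk x) :=
    ⟨fun a c m => mul_smul ((X.presheaf.germ A x hx).hom a) c m⟩
  obtain ⟨g, hg, -⟩ := exists_loc hA hF hx
  haveI := hg
  exact Module.free_of_isLocalizedModule (hA.primeIdealOf ⟨x, hx⟩).asIdeal.primeCompl g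

/-- A free stalk of a coherent module has an affine neighbourhood with free sections. -/
theorem exists_free_affine [IsLocallyNoetherian X] {F : X.Modules} (hF : Coh.IsCoh F) {x : X}
    (h : Module.Free (X.presheaf.stalk x) (F.presheaf.stalk x)) :
    ∃ A : X.Opens, IsAffineOpen A ∧ x ∈ A ∧ Module.Free Γ(X, A) Γ(F, A) := by
  obtain ⟨A, hA, hx, -⟩ := exists_isAffineOpen_mem_and_subset (x := x) (U := (⊤ : X.Opens)) trivial
  letI := Module.compHom (F.presheaf.stalk x) (X.presheaf.germ A x hx).hom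
  letI := (X.presheaf.germ A x hx).hom.toAlgebra
  haveI := hA.isLocalization_stalk ⟨x, hx⟩
  haveI : IsScalarTower Γ(X, A) (X.presheaf.stalk x) (F.presheaf.stalk x) :=
    ⟨fun a c m => mul_smul ((X.presheaf.germ A x hx).hom a) c m⟩
  haveI : IsNoetherianRing Γ(X, A) := IsLocallyNoetherian.component_noetherian ⟨A, hA⟩
  haveI := Groth.Agent.QC.finite_sections hA (hM := hF.1) hF.2
  haveI : Module.FinitePresentation Γ(X, A) Γ(F, A) := Module.finitePresentation_of_finite _ _
  obtain ⟨g, hg, -⟩ := exists_loc hA hF.1 hx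
  haveI := hg
  obtain ⟨r, hr, hfree, -⟩ := Module.FinitePresentation.exists_free_localizedModule_powers
    (hA.primeIdealOf ⟨x, hx⟩).asIdeal.primeCompl g (X.presheaf.stalk x)
  refine ⟨X.basicOpen r, hA.basicOpen r, (WeakAssLib.mem_primeIdealOf hA hx r).2 hr, ?_⟩
  haveI := hA.isLocalization_basicOpen r
  letI := Module.compHom Γ(F, X.basicOpen r) (Groth.Agent.QC.resO X (X.basicOpen_le r))
  obtain ⟨g', hg', htow⟩ := LocFree.exists_resMap hF.1 hA r
  haveI := htow
  haveI := hg'
  haveI := hfree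
  let eR : Localization (Submonoid.powers r) ≃+* Γ(X, X.basicOpen r) :=
    (IsLocalization.algEquiv (Submonoid.powers r) _ _).toRingEquiv
  let eM := (IsLocalizedModule.iso (Submonoid.powers r) g')
  letI := RingHomInvPair.of_ringEquiv eR
  letI := RingHomInvPair.of_ringEquiv eR.symm
  let e : LocalizedModule (Submonoid.powers r) Γ(F, A) ≃ₛₗ[RingHomClass.toRingHom eR] Γ(F, X.basicOpen r) :=
    { eM.toAddEquiv with
      map_smul' := fun c m => by
        obtain ⟨a, s, rfl⟩ := IsLocalization.exists_mk'_eq (Submonoid.powers r) c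
        change eM (_ • m) = _ • eM m
        have hu : IsUnit (algebraMap Γ(X, A) Γ(X, X.basicOpen r) (s : Γ(X, A))) := IsLocalization.map_units _ s
        have h1 : algebraMap Γ(X, A) (Localization (Submonoid.powers r)) (s : Γ(X, A)) *
            IsLocalization.mk' (Localization (Submonoid.powers r)) a s = algebraMap _ _ a := by
          rw [mul_comm]; exact IsLocalization.mk'_spec _ a s
        have hAlg : ∀ b : Γ(X, A), eR (algebraMap _ _ b) = algebraMap Γ(X, A) Γ(X, X.basicOpen r) b := fun b =>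
          (IsLocalization.algEquiv (Submonoid.powers r) (Localization (Submonoid.powers r))
            Γ(X, X.basicOpen r)).commutes b
        have h2 : algebraMap Γ(X, A) Γ(X, X.basicOpen r) (s : Γ(X, A)) *
            eR (IsLocalization.mk' (Localization (Submonoid.powers r)) a s) = algebraMap _ _ a := by
          rw [← hAlg, ← map_mul, h1, hAlg]
        refine (hu.smul_left_cancel).1 ?_
        rw [smul_smul]
        refine Eq.trans ?_ (congrArg (· • eM m) h2.symm)
        rw [algebraMap_smul, algebraMap_smul, ← map_smul, ← map_smul]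
        congr 1
        rw [← algebraMap_smul (Localization (Submonoid.powers r)) (s : Γ(X, A)), smul_smul, h1, algebraMap_smul] }
  exact Module.Free.of_equiv e

/-- Freeness of sections of a restriction. -/
theorem free_restrict_iff {F : X.Modules} {U : X.Opens} (A : (U : Scheme.{u}).Opens) :
    Module.Free Γ((U : Scheme.{u}), A) Γ(F.restrict U.ι, A) ↔ Module.Free Γ(X, U.ι ''ᵁ A) Γ(F, U.ι ''ᵁ A) := by
  let eR : Γ((U : Scheme.{u}), A) ≃+* Γ(X, U.ι ''ᵁ A) := (U.ι.appIso A).symm.commRingCatIsoToRingEquiv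
  letI := RingHomInvPair.of_ringEquiv eR
  letI := RingHomInvPair.of_ringEquiv eR.symm
  let e : Γ(F.restrict U.ι, A) ≃ₛₗ[RingHomClass.toRingHom eR] Γ(F, U.ι ''ᵁ A) :=
    { AddEquiv.refl Γ(F, U.ι ''ᵁ A) with map_smul' := fun c m => rfl }
  exact Module.Free.iff_of_equiv e

/-- The restriction to an open is finite locally free exactly when the stalks there are free. -/
theorem isFinLocFree_restrict_iff [IsLocallyNoetherian X] {F : X.Modules} (hF : Coh.IsCoh F) (U : X.Opens) :
    FlatMod.IsFinLocFree (F.restrict U.ι) ↔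
      ∀ x ∈ U, Module.Free (X.presheaf.stalk x) (F.presheaf.stalk x) := by
  constructor
  · intro h x hx
    obtain ⟨W, n, hW, ⟨e⟩⟩ := h ⟨x, hx⟩
    obtain ⟨A, hA, hxA, hAW⟩ := exists_isAffineOpen_mem_and_subset (U := W) hW
    haveI := (free_restrict_iff A).1 (LocFree.free_sections_of_le e hA hAW).1
    exact free_stalk_of_free_sections hF.1 (hA.image_of_isOpenImmersion U.ι) ⟨⟨x, hx⟩, hxA, rfl⟩
  · intro h
    refine LocFree.isFinLocFree_of_affine_free (Groth.Agent.QC.isQCoh_restrict U.ι hF.1) fun x => ?_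
    obtain ⟨A, hA, hxA, hfree⟩ := exists_free_affine hF (h x.1 x.2)
    haveI := hfree
    obtain ⟨B, hB, hxB, hBA⟩ := exists_isAffineOpen_mem_and_subset (U := U.ι ⁻¹ᵁ A) (x := x) hxA
    have hle : U.ι ''ᵁ B ≤ A := by rintro y ⟨y', hy', rfl⟩; exact hBA hy'
    obtain ⟨n, ⟨e⟩⟩ := by
      haveI := Groth.Agent.QC.finite_sections hA (hM := hF.1) hF.2
      exact LocFree.exists_iso_free_of_affine (hM := hF.1) hA
    haveI : IsLocallyNoetherian (U : Scheme.{u}) := inferInstance
    refine ⟨B, hB, hxB, (free_restrict_iff B).2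
      (LocFree.free_sections_of_le e (hB.image_of_isOpenImmersion U.ι) hle).1, ?_⟩
    exact Groth.Agent.QC.finite_sections hB (hM := Groth.Agent.QC.isQCoh_restrict U.ι hF.1)
      (Groth.Agent.QC.isFT_restrict U.ι hF.2)

end Groth.Agent.RefStalk
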