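import Groth.Prelude.Def_RefHull
import Groth.Agent.TMul.GlobGen
import Groth.Agent.WeakAssLib.Basic
import Groth.Agent.QC.FiniteType
import Mathlib

/-!
Finite type modules: finitely many sections span the nearby stalks.
-/

set_option autoImplicit false
set_option backward.isDefEq.respectTransparency false

universe u

open CategoryTheory CategoryTheory.Limits AlgebraicGeometry TopologicalSpace Opposite
open Groth.Agent.QC (res resO res_res res_smul resO_resO app_res HasFinGen genSub)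
open Groth.Agent.WeakAssLib (mgerm mgerm_smul mgerm_res)

noncomputable section

namespace Groth.Agent.RefStalk

variable {X : Scheme.{u}} {M : X.Modules}

/-- Every section of a module with generating sections is locally in their span. -/
theorem exists_mem_span {Y : Scheme.{u}} {G : Y.Modules} (σ : SheafOfModules.GeneratingSections.{u} G)
    {O : Y.Opens} (t : Γ(G, O)) {x : Y} (hx : x ∈ O) :
    ∃ (W : Y.Opens) (hW : W ≤ O), x ∈ W ∧ res G hW t ∈ Submodule.span Γ(Y, W)
      (Set.range fun i : σ.I => res G (le_top : W ≤ ⊤) ((σ.s i).1 (op ⊤))) := by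
  let T : Set Γ(G, (⊤ : Y.Opens)) := Set.range fun i : σ.I => (σ.s i).1 (op ⊤)
  let S : Groth.Agent.QC.Sub G := genSub T
  have hres : ∀ (i : σ.I) (U : Y.Opens), res G (le_top : U ≤ ⊤) ((σ.s i).1 (op ⊤)) = (σ.s i).1 (op U) :=
    fun i U => (σ.s i).2 (homOfLE (le_top : U ≤ ⊤)).op
  have hmem : ∀ (i : σ.I) (U : Y.Opens), (σ.s i).1 (op U) ∈ S.obj U := fun i U => by
    rw [← hres]
    exact S.res_mem le_top (Groth.Agent.QC.mem_genSub_of_mem ⟨i, rfl⟩)
  let s' : σ.I → S.toModules.sections := fun i =>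
    PresheafOfModules.sectionsMk (fun U => (⟨(σ.s i).1 U, hmem i U.unop⟩ : S.obj U.unop))
      fun U V f => Subtype.ext ((σ.s i).2 f)
  have hfac : (SheafOfModules.freeHomEquiv.{u} S.toModules).symm s' ≫ S.ι = σ.π := by
    rw [SheafOfModules.freeHomEquiv_symm_comp]
    rfl
  haveI : Epi ((SheafOfModules.freeHomEquiv.{u} S.toModules).symm s' ≫ S.ι) := hfac ▸ σ.epi
  haveI : Epi S.ι := epi_of_epi ((SheafOfModules.freeHomEquiv.{u} S.toModules).symm s') S.ι
  obtain ⟨V, hVO, hxV, a, ha⟩ := TMul.exists_app_eq_of_epi S.ι t hx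
  obtain ⟨W, hWV, hW, hxW, hs⟩ := (show res G hVO t ∈ S.obj V from (S.range_ι_app V _).1 ⟨a, ha⟩) x hxV trivial
  refine ⟨W, hWV.trans hVO, hxW, ?_⟩
  rw [res_res, ← Set.range_comp] at hs
  exact hs

/-- A finite type module is spanned on stalks near a point by finitely many sections. -/
theorem exists_spanning_nhd (hM : CohB1.IsFT M) (x : X) :
    ∃ (W : X.Opens) (ι : Type u) (_ : Finite ι) (s : ι → Γ(M, W)), x ∈ W ∧
      ∀ (y : X) (hy : y ∈ W),
        Submodule.span (X.presheaf.stalk y) (Set.range fun i => mgerm M hy (s i)) = ⊤ := by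
  obtain ⟨W, hxW, σ, hσ⟩ := Groth.Agent.QC.isFT_iff_exists_hasFinGen.1 hM x
  have hle : W ≤ W.ι ''ᵁ ⊤ := fun y hy => ⟨⟨y, hy⟩, trivial, rfl⟩
  refine ⟨W, σ.I, hσ.finite, fun i => res M hle ((σ.s i).1 (op ⊤) : Γ(M, W.ι ''ᵁ ⊤)), hxW,
    fun y hy => eq_top_iff.2 fun θ _ => ?_⟩
  obtain ⟨V, hyV, t, rfl⟩ := TopCat.Presheaf.exists_germ_eq M.presheaf θ
  let O : (W : Scheme.{u}).Opens := W.ι ⁻¹ᵁ V
  have hOV : W.ι ''ᵁ O ≤ V := by rintro z ⟨z', hz', rfl⟩; exact hz'
  obtain ⟨P, hPO, hyP, hP⟩ := exists_mem_span σ (G := M.restrict W.ι) (O := O) (res M hOV t) (x := ⟨y, hy⟩) hyV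
  have hyP' : y ∈ W.ι ''ᵁ P := ⟨⟨y, hy⟩, hyP, rfl⟩
  have key : ∀ m : Γ(M, W.ι ''ᵁ P), (m : Γ(M.restrict W.ι, P)) ∈ Submodule.span Γ((W : Scheme.{u}), P)
      (Set.range fun i : σ.I => res (M.restrict W.ι) (le_top : P ≤ ⊤) ((σ.s i).1 (op ⊤))) →
      mgerm M hyP' m ∈ Submodule.span (X.presheaf.stalk y)
        (Set.range fun i => mgerm M hy (res M hle ((σ.s i).1 (op ⊤) : Γ(M, W.ι ''ᵁ ⊤)))) := by
    intro m hm
    induction hm using Submodule.span_induction with
    | mem z hz =>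
      obtain ⟨i, rfl⟩ := hz
      refine Submodule.subset_span ⟨i, ?_⟩
      simp only [mgerm_res]
      exact (mgerm_res M (W.ι.image_mono le_top) hyP' _).symm
    | zero => exact (map_zero (mgerm M hyP')).symm ▸ Submodule.zero_mem _
    | add a b _ _ ha hb =>
      exact (map_add (mgerm M hyP') a b).symm ▸ Submodule.add_mem _ ha hb
    | smul c a _ ha =>
      refine (show mgerm M hyP' (((W.ι.appIso P).inv c) • (show Γ(M, W.ι ''ᵁ P) from a)) ∈ _ from ?_)
      rw [mgerm_smul]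
      exact Submodule.smul_mem _ _ ha
  have h := key _ hP
  rw [show mgerm M hyP' (res (M.restrict W.ι) hPO (res M hOV t)) =
    mgerm M hyP' (res M ((W.ι.image_mono hPO).trans hOV) t) from
      congrArg _ (res_res M (W.ι.image_mono hPO) hOV t), mgerm_res] at h
  exact h

end Groth.Agent.RefStalk
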