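import Groth.Agent.RefStalk.Extend
import Groth.Agent.Catenary.NormalDepth
import Groth.Prelude.Def_TorSh
import Mathlib

/-!
Reflexive modules on normal schemes: free in codimension one, extension across codimension two.
-/

set_option autoImplicit false
set_option backward.isDefEq.respectTransparency false

universe u

open CategoryTheory CategoryTheory.Limits AlgebraicGeometry TopologicalSpace Opposite

noncomputable section

namespace Groth.Agent.RefStalk

theorem free_of_isTorsionFree {R : Type u} [CommRing R] [IsDomain R] [IsNoetherianRing R] [IsLocalRing R]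
    [IsIntegrallyClosed R] (hd : ringKrullDim R ≤ 1) (M : Type u) [AddCommGroup M] [Module R M] [Module.Finite R M]
    [Module.IsTorsionFree R M] : Module.Free R M := by
  haveI : Ring.DimensionLEOne R := ⟨fun {p} hp hprime =>
    (Ring.krullDimLE_one_iff_of_isPrime_bot.1 (Ring.krullDimLE_iff.2 (by exact_mod_cast hd))) p hp hprime⟩
  haveI : IsDedekindRing R := { }
  haveI : IsDedekindDomain R := { }
  exact Module.free_of_finite_type_torsion_free'

theorem isTorsionFree_of_isReflexive {R : Type u} [CommRing R] [IsDomain R] (M : Type u) [AddCommGroup M]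
    [Module R M] [Module.IsReflexive R M] : Module.IsTorsionFree R M :=
  (Module.bijective_dual_eval R M).1.moduleIsTorsionFree _ (map_smul _)

theorem two_le_iff {R : Type u} [CommRing R] [Nontrivial R] :
    (2 : WithBot ℕ∞) ≤ ringKrullDim R ↔ ¬ ringKrullDim R ≤ 1 := by
  have h0 : ringKrullDim R ≠ ⊥ := ne_bot_of_le_ne_bot WithBot.zero_ne_bot ringKrullDim_nonneg_of_nontrivial
  cases h : ringKrullDim R with
  | bot => exact absurd h h0
  | coe v =>
    cases v with
    | top => exact ⟨fun _ h' => absurd (WithBot.coe_le_coe.1 (h' : ((⊤ : ℕ∞) : WithBot ℕ∞) ≤ ((1 : ℕ∞) : WithBot ℕ∞)))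
        (by simp), fun _ => le_top⟩
    | coe n =>
      rw [not_le, show (2 : WithBot ℕ∞) = ((2 : ℕ) : WithBot ℕ∞) from rfl,
        show (1 : WithBot ℕ∞) = ((1 : ℕ) : WithBot ℕ∞) from rfl,
        show (((n : ℕ∞) : ℕ∞) : WithBot ℕ∞) = ((n : ℕ) : WithBot ℕ∞) from rfl, Nat.cast_le, Nat.cast_lt]
      omega

variable {X : Scheme.{u}}

theorem two_le_of_specializes {x y : X} (h : x ⤳ y)
    (hx : (2 : WithBot ℕ∞) ≤ ringKrullDim (X.presheaf.stalk x)) :
    (2 : WithBot ℕ∞) ≤ ringKrullDim (X.presheaf.stalk y) := by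
  letI := specializationOrder X
  rw [ringKrullDim_stalk_eq_coheight] at hx ⊢
  exact hx.trans (WithBot.coe_le_coe.2 (Order.coheight_anti (show y ≤ x from h)))

/-- The open set of free stalks. -/
theorem exists_free_locus [IsLocallyNoetherian X] {F : X.Modules} (hF : Coh.IsCoh F) :
    ∃ U : X.Opens, ∀ x, x ∈ U ↔ Module.Free (X.presheaf.stalk x) (F.presheaf.stalk x) := by
  refine ⟨⟨{x | Module.Free (X.presheaf.stalk x) (F.presheaf.stalk x)}, isOpen_iff_forall_mem_open.2
    fun x hx => ?_⟩, fun x => Iff.rfl⟩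
  obtain ⟨A, hA, hxA, hfree⟩ := exists_free_affine hF hx
  haveI := hfree
  exact ⟨A, fun y hy => free_stalk_of_free_sections hF.1 hA hy, A.2, hxA⟩

variable [IsLocallyNoetherian X] {F : X.Modules} (hn : Pi1.IsNormalScheme X)
include hn

theorem two_le_depth (x : X) (hx : (2 : WithBot ℕ∞) ≤ ringKrullDim (X.presheaf.stalk x)) :
    (2 : ℕ∞) ≤ LocCoh.depth (X.presheaf.stalk x) (X.presheaf.stalk x) := by
  haveI := (hn x).1
  haveI := (hn x).2
  exact Catenary.two_le_depth_of_normal (two_le_iff.1 hx)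

theorem free_stalk_codim_one (hF : Coh.IsCoh F) (x : X)
    (htf : Module.IsTorsionFree (X.presheaf.stalk x) (F.presheaf.stalk x))
    (hx : ¬ (2 : WithBot ℕ∞) ≤ ringKrullDim (X.presheaf.stalk x)) :
    Module.Free (X.presheaf.stalk x) (F.presheaf.stalk x) := by
  haveI := (hn x).1
  haveI := (hn x).2
  haveI := RegDual.finite_stalk hF x
  haveI := htf
  exact free_of_isTorsionFree (not_not.1 (two_le_iff.not.1 hx)) _

theorem bijective_res_of_isReflexive (hF : Coh.IsCoh F)
    (hr : ∀ x : X, Module.IsReflexive (X.presheaf.stalk x) (F.presheaf.stalk x)) {U V : X.Opens} (hVU : V ≤ U)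
    (h : ∀ x : X, x ∈ U → x ∉ V → (2 : WithBot ℕ∞) ≤ ringKrullDim (X.presheaf.stalk x)) :
    Function.Bijective (F.presheaf.map (homOfLE hVU).op) :=
  bijective_rs_of_depth hF hVU fun x hx hx' =>
    two_le_depth_of_isReflexiveAt hF x (hr x) (two_le_depth hn x (h x hx hx'))

theorem two_le_depth_of_extension (hF : Coh.IsCoh F)
    (h : ∀ (U V : X.Opens) (hVU : V ≤ U), (∀ x : X, x ∈ U → x ∉ V → (2 : WithBot ℕ∞) ≤ ringKrullDim (X.presheaf.stalk x)) →
      Function.Bijective (F.presheaf.map (homOfLE hVU).op))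
    (x : X) (hx : (2 : WithBot ℕ∞) ≤ ringKrullDim (X.presheaf.stalk x)) :
    (2 : ℕ∞) ≤ LocCoh.depth (X.presheaf.stalk x) (F.presheaf.stalk x) := by
  obtain ⟨A, hA, hxA, -⟩ := exists_isAffineOpen_mem_and_subset (x := x) (U := (⊤ : X.Opens)) trivial
  let W : X.Opens := ⟨(closure {x})ᶜ, isClosed_closure.isOpen_compl⟩
  refine (ZCl.bijective_rs_iff_depth F hF hA W).1 (h A (W ⊓ A) inf_le_right fun y hyA hy => ?_) x hxA
    fun hm => hm (subset_closure rfl)
  exact two_le_of_specializes (specializes_iff_mem_closure.2 (by by_contra hc; exact hy ⟨hc, hyA⟩)) hx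

theorem isReflexive_of_extension [IsIntegral X] (hF : Coh.IsCoh F) (htf : TorSh.IsTorsionFree F)
    (h : ∀ (U V : X.Opens) (hVU : V ≤ U), (∀ x : X, x ∈ U → x ∉ V → (2 : WithBot ℕ∞) ≤ ringKrullDim (X.presheaf.stalk x)) →
      Function.Bijective (F.presheaf.map (homOfLE hVU).op)) : RefHull.IsReflexive F := by
  obtain ⟨U, hU⟩ := exists_free_locus hF
  have hU2 : ∀ x ∉ U, (2 : WithBot ℕ∞) ≤ ringKrullDim (X.presheaf.stalk x) := fun x hx => by
    by_contra hc
    exact hx ((hU x).2 (free_stalk_codim_one hn hF x (htf x) hc))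
  refine isReflexive_of_depth hF U (fun x hx => ?_) (fun x hx => two_le_depth_of_extension hn hF h x (hU2 x hx))
    fun x hx => two_le_depth hn x (hU2 x hx)
  haveI := (hU x).1 hx
  haveI := RegDual.finite_stalk hF x
  exact (inferInstance : Module.IsReflexive (X.presheaf.stalk x) (F.presheaf.stalk x))

end Groth.Agent.RefStalk
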