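import Groth.Agent.RefStalk.Refl
import Mathlib

/-!
The locus where a morphism of finitely presented modules is bijective on stalks is open.
-/

set_option autoImplicit false
set_option backward.isDefEq.respectTransparency false

universe u

open CategoryTheory CategoryTheory.Limits AlgebraicGeometry TopologicalSpace Opposite

noncomputable section

namespace Groth.Agent.RefStalk

variable {X : Scheme.{u}} {F G : X.Modules}

theorem exists_nhd_bijective (φ : F ⟶ G) (hF : CohB1.IsFP F) (hG : CohB1.IsFP G) (x : X)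
    (h : Function.Bijective (RefHull.stalkMapₗ φ x)) :
    ∃ W : X.Opens, x ∈ W ∧ ∀ y ∈ W, Function.Bijective (RefHull.stalkMapₗ φ y) := by
  let ψ := (LinearEquiv.ofBijective _ h).symm
  obtain ⟨θ, hθ⟩ := (evalStalk_bijective (G := F) hG x).2 ψ.toLinearMap
  obtain ⟨W₀, hx₀, g, rfl⟩ := TopCat.Presheaf.exists_germ_eq (RefHull.homSh G F).presheaf θ
  rw [RefHull.evalStalk_germ] at hθ
  have hl : RefHull.IsLocSect F F (U := W₀) fun y => g.1 y ∘ₗ RefHull.stalkMapₗ φ y.1 := fun V i m v => by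
    obtain ⟨W, hW, j, n, hn⟩ := RefHull.isLocSect_of_mem g V i (φ.app V m) v
    exact ⟨W, hW, j, n, fun y => by rw [LinearMap.comp_apply, RefHull.stalkMapₗ_germ]; exact hn y⟩
  have hr : RefHull.IsLocSect G G (U := W₀) fun y => RefHull.stalkMapₗ φ y.1 ∘ₗ g.1 y := fun V i m v => by
    obtain ⟨W, hW, j, n, hn⟩ := RefHull.isLocSect_of_mem g V i m v
    exact ⟨W, hW, j, φ.app W n, fun y => by rw [LinearMap.comp_apply, hn y, RefHull.stalkMapₗ_germ]⟩
  let cl : Γ(RefHull.homSh F F, W₀) := ⟨fun y => g.1 y ∘ₗ RefHull.stalkMapₗ φ y.1, hl⟩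
  let cr : Γ(RefHull.homSh G G, W₀) := ⟨fun y => RefHull.stalkMapₗ φ y.1 ∘ₗ g.1 y, hr⟩
  have hid : ∀ (M : X.Modules) (y : X), RefHull.stalkMapₗ (𝟙 M) y = LinearMap.id := fun M y =>
    LinearMap.ext fun t => by
      obtain ⟨U, hU, s, rfl⟩ := TopCat.Presheaf.exists_germ_eq M.presheaf t
      rw [RefHull.stalkMapₗ_germ]
      rfl
  have hcl : (RefHull.homSh F F).presheaf.germ W₀ x hx₀ cl =
      (RefHull.homSh F F).presheaf.germ W₀ x hx₀ (RefHull.ofHom (𝟙 F) W₀) := by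
    refine (evalStalk_bijective hF x).1 ?_
    rw [RefHull.evalStalk_germ, RefHull.evalStalk_germ, RefHull.ofHom_apply, hid]
    refine LinearMap.ext fun t => ?_
    change g.1 ⟨x, hx₀⟩ (RefHull.stalkMapₗ φ x t) = t
    rw [hθ]
    exact (LinearEquiv.ofBijective _ h).symm_apply_apply t
  have hcr : (RefHull.homSh G G).presheaf.germ W₀ x hx₀ cr =
      (RefHull.homSh G G).presheaf.germ W₀ x hx₀ (RefHull.ofHom (𝟙 G) W₀) := by
    refine (evalStalk_bijective hG x).1 ?_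
    rw [RefHull.evalStalk_germ, RefHull.evalStalk_germ, RefHull.ofHom_apply, hid]
    refine LinearMap.ext fun t => ?_
    change RefHull.stalkMapₗ φ x (g.1 ⟨x, hx₀⟩ t) = t
    rw [hθ]
    exact (LinearEquiv.ofBijective _ h).apply_symm_apply t
  obtain ⟨W₁, hx₁, i₁, i₁', e₁⟩ := TopCat.Presheaf.germ_eq _ x hx₀ hx₀ _ _ hcl
  obtain ⟨W₂, hx₂, i₂, i₂', e₂⟩ := TopCat.Presheaf.germ_eq _ x hx₀ hx₀ _ _ hcr
  refine ⟨W₁ ⊓ W₂, ⟨hx₁, hx₂⟩, fun y hy => ?_⟩
  have hgl : g.1 ⟨y, i₁.le hy.1⟩ ∘ₗ RefHull.stalkMapₗ φ y = LinearMap.id :=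
    (congrFun (congrArg Subtype.val e₁) ⟨y, hy.1⟩).trans (hid F y)
  have hgr : RefHull.stalkMapₗ φ y ∘ₗ g.1 ⟨y, i₂.le hy.2⟩ = LinearMap.id :=
    (congrFun (congrArg Subtype.val e₂) ⟨y, hy.2⟩).trans (hid G y)
  exact Function.bijective_iff_has_inverse.2
    ⟨g.1 ⟨y, i₁.le hy.1⟩, LinearMap.congr_fun hgl, LinearMap.congr_fun hgr⟩

/-- A morphism of finitely presented modules bijective on stalks at the closed points is an isomorphism. -/
theorem isIso_of_closedPoints (φ : F ⟶ G) (hF : CohB1.IsFP F) (hG : CohB1.IsFP G)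
    (hcl : ∀ Z : Set X, IsClosed Z → Z.Nonempty → ∃ x ∈ Z, IsClosed ({x} : Set X))
    (h : ∀ x : X, IsClosed ({x} : Set X) → Function.Bijective (RefHull.stalkMapₗ φ x)) :
    ∀ x, Function.Bijective (RefHull.stalkMapₗ φ x) := fun y => by
  obtain ⟨x, hxy, hx⟩ := hcl (closure {y}) isClosed_closure ⟨y, subset_closure rfl⟩
  obtain ⟨W, hxW, hW⟩ := exists_nhd_bijective φ hF hG x (h x hx)
  exact hW y ((specializes_iff_mem_closure.2 hxy).mem_open W.2 hxW)

end Groth.Agent.RefStalk
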